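import Cfsg.Agent.TO.CovA
import Cfsg.Agent.Blocks.BrauerMap
import Cfsg.Agent.Blocks.CliffordCentral
import Cfsg.Agent.Blocks.ClassScalar

/-!
# BH, Kap (helper33): invariant functions and the central characters of extensions

`om ψ z = ∑ z ψ / ψ 1` on the functions `z` which are invariant under a subgroup on which `ψ` is irreducible.
-/

set_option autoImplicit false

namespace Cfsg.Agent.BH.Kap

open Cfsg Cfsg.Agent.Blocks.Local Cfsg.Agent.Characters Cfsg.Agent.TO
open Cfsg.Agent.Blocks.ConvCentral (conv lin opOf conv_apply lin_def opOf_def trace_opOf)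
open Cfsg.Agent.Blocks.BrauerMap (ind ind_of_mem ind_of_notMem)

variable {G : Type} [Group G] {p : ℕ} {M : Ideal AlgInt}

/-- the class of `w` under `N` -/
def cl (N : Subgroup G) (w : G) : Set G := {v | ∃ n ∈ N, v = n * w * n⁻¹}

/-- invariant under conjugation by `N` -/
def Iv (N : Subgroup G) (z : G → ℂ) : Prop := ∀ n ∈ N, ∀ g, z (n * g * n⁻¹) = z g

/-- the values are local integers -/
def Ig (M : Ideal AlgInt) (z : G → ℂ) : Prop := ∀ g, MemLocalRing M (z g)

/-- the value of the central character -/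
noncomputable def om [Fintype G] (ψ z : G → ℂ) : ℂ := lin ψ z / ψ 1

theorem self_mem_cl (N : Subgroup G) (w : G) : w ∈ cl N w := ⟨1, one_mem _, by simp⟩

theorem cl_symm {N : Subgroup G} {v w : G} (h : v ∈ cl N w) : w ∈ cl N v := by
  obtain ⟨n, hn, rfl⟩ := h
  exact ⟨n⁻¹, inv_mem hn, by group⟩

theorem cl_trans {N : Subgroup G} {u v w : G} (h : u ∈ cl N v) (h' : v ∈ cl N w) : u ∈ cl N w := by
  obtain ⟨n, hn, rfl⟩ := h
  obtain ⟨m, hm, rfl⟩ := h'
  exact ⟨n * m, mul_mem hn hm, by group⟩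

theorem conj_mem_cl {N : Subgroup G} {n : G} (hn : n ∈ N) (g w : G) : n * g * n⁻¹ ∈ cl N w ↔ g ∈ cl N w :=
  ⟨fun h => cl_trans (cl_symm ⟨n, hn, rfl⟩) h, fun h => cl_trans ⟨n, hn, rfl⟩ h⟩

omit [Group G] in
theorem ind_congr {S T : Set G} {x y : G} (h : x ∈ S ↔ y ∈ T) : ind S x = ind T y := by
  by_cases hx : x ∈ S
  · rw [ind_of_mem hx, ind_of_mem (h.1 hx)]
  · rw [ind_of_notMem hx, ind_of_notMem fun hy => hx (h.2 hy)]

theorem iv_cl (N : Subgroup G) (w : G) : Iv N (ind (cl N w)) := fun _ hn g => ind_congr (conj_mem_cl hn g w)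

omit [Group G] in
theorem ig_ind [M.IsPrime] (S : Set G) : Ig M (ind S) := fun g =>
  memLocalRing_of_isIntegral (Blocks.BrauerMap.isIntegral_ind S g)

theorem Iv.mono {N K : Subgroup G} {z : G → ℂ} (h : Iv N z) (hK : K ≤ N) : Iv K z := fun n hn => h n (hK hn)

theorem Iv.of_cl {N : Subgroup G} {z : G → ℂ} (h : Iv N z) {v w : G} (hv : v ∈ cl N w) : z v = z w := by
  obtain ⟨n, hn, rfl⟩ := hv
  exact h n hn w

variable [Fintype G]

theorem Iv.conv {N : Subgroup G} {x y : G → ℂ} (hx : Iv N x) (hy : Iv N y) : Iv N (conv x y) := by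
  intro n hn g
  rw [conv_apply, conv_apply, ← (MulAut.conj n).toEquiv.sum_comp]
  refine Finset.sum_congr rfl fun a _ => ?_
  show x (n * a * n⁻¹) * y ((n * a * n⁻¹)⁻¹ * (n * g * n⁻¹)) = _
  rw [hx n hn, show (n * a * n⁻¹)⁻¹ * (n * g * n⁻¹) = n * (a⁻¹ * g) * n⁻¹ by group, hy n hn]

theorem Ig.conv [M.IsPrime] {x y : G → ℂ} (hx : Ig M x) (hy : Ig M y) : Ig M (conv x y) := fun _ =>
  memLocalRing_sum fun _ _ => memLocalRing_mul (hx _) (hy _)

theorem om_def (ψ z : G → ℂ) : om ψ z = (∑ g, z g * ψ g) / ψ 1 := rfl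

theorem om_sub (ψ x y : G → ℂ) : om ψ (fun g => x g - y g) = om ψ x - om ψ y := by
  simp only [om_def, sub_mul, Finset.sum_sub_distrib, sub_div]

theorem om_fs (ψ : G → ℂ) (S : Set G) : ∑ᶠ v ∈ S, ψ v / ψ 1 = om ψ (ind S) :=
  Blocks.BrauerMap.finsum_mem_eq_lin ψ S

/-- decomposition into classes -/
theorem exists_reps (N : Subgroup G) :
    ∃ s : Finset G, ∀ ψ z : G → ℂ, Iv N z → om ψ z = ∑ r ∈ s, z r * om ψ (ind (cl N r)) := by
  classical
  let st : Setoid G := ⟨fun a b => a ∈ cl N b, self_mem_cl N, cl_symm, cl_trans⟩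
  refine ⟨Finset.univ.image fun g : G => (Quotient.mk st g).out, fun ψ z hz => ?_⟩
  have key : ∀ g, z g = ∑ r ∈ Finset.univ.image fun g : G => (Quotient.mk st g).out, z r * ind (cl N r) g := by
    intro g
    have h1 : (Quotient.mk st g).out ∈ cl N g := Quotient.exact (Quotient.out_eq (Quotient.mk st g))
    rw [Finset.sum_eq_single_of_mem (Quotient.mk st g).out (Finset.mem_image.2 ⟨g, Finset.mem_univ g, rfl⟩),
      ind_of_mem (cl_symm h1), mul_one, hz.of_cl h1]
    intro r hr hne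
    obtain ⟨a, -, rfl⟩ := Finset.mem_image.1 hr
    rw [ind_of_notMem, mul_zero]
    intro h2
    have h3 : Quotient.mk st g = Quotient.mk st (Quotient.mk st a).out := Quotient.sound h2
    rw [Quotient.out_eq] at h3
    exact hne (by rw [h3])
  simp only [om_def]
  rw [Finset.sum_congr rfl fun g _ => congrArg (· * ψ g) (key g)]
  simp only [Finset.sum_mul, Finset.mul_sum, Finset.sum_div, mul_div_assoc, mul_assoc]
  exact Finset.sum_comm

theorem om_ideal [M.IsPrime] {N : Subgroup G} {ψ z : G → ℂ} (hz : Iv N z)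
    (h : ∀ r, MemLocalIdeal M (z r * om ψ (ind (cl N r)))) : MemLocalIdeal M (om ψ z) := by
  obtain ⟨s, hs⟩ := exists_reps N
  rw [hs ψ z hz]
  exact memLocalIdeal_sum fun r _ => h r

theorem om_sub_ideal [M.IsPrime] {N : Subgroup G} {ψ ψ' z : G → ℂ} (hz : Iv N z) (c : ℂ)
    (h : ∀ r, MemLocalIdeal M (z r * (om ψ (ind (cl N r)) - c * om ψ' (ind (cl N r))))) :
    MemLocalIdeal M (om ψ z - c * om ψ' z) := by
  obtain ⟨s, hs⟩ := exists_reps N
  rw [hs ψ z hz, hs ψ' z hz, Finset.mul_sum, ← Finset.sum_sub_distrib]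
  refine memLocalIdeal_sum fun r _ => ?_
  have := h r
  rwa [mul_sub, mul_left_comm] at this

/-- `ψ` is an irreducible character of `H`, zero outside, which stays irreducible on the normal subgroup `I` -/
structure Ex (H I : Subgroup G) (ψ : G → ℂ) : Prop where
  le : I ≤ H
  nrm : H ≤ Subgroup.normalizer (I : Set G)
  irr : IsIrrCharacter H fun h => ψ h
  irr0 : IsIrrCharacter I fun h => ψ h
  zero : ∀ g, g ∉ H → ψ g = 0

namespace Ex

variable {H I : Subgroup G} {ψ : G → ℂ}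

omit [Fintype G] in
theorem one_ne (E : Ex H I ψ) : ψ 1 ≠ 0 := Core.isIrr_apply_one_ne_zero (G := H) E.irr

theorem irr_mid (E : Ex H I ψ) {R : Subgroup G} (h1 : I ≤ R) (h2 : R ≤ H) : IsIrrCharacter R fun h => ψ h :=
  Cov.irr_of_comp (Subgroup.inclusion h1)
    (Core.isCharacter_comp (Subgroup.inclusion h2) (Core.isIrr_isCharacter E.irr)) E.irr0

omit [Fintype G] in
theorem cj (E : Ex H I ψ) {h : G} (hh : h ∈ H) (g : G) : ψ (h * g * h⁻¹) = ψ g := by
  by_cases hg : g ∈ H
  · exact Core.isIrr_isClassFunction E.irr ⟨g, hg⟩ ⟨h, hh⟩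
  · rw [E.zero g hg, E.zero _ fun h1 => hg (by simpa [mul_assoc] using mul_mem (mul_mem (inv_mem hh) h1) hh)]

/-- a class sum is a value of the central character of a restriction -/
theorem om_cl (E : Ex H I ψ) {r : G} (hr : r ∈ H) : om ψ (ind (cl I r)) =
    centralChar (fun h : (I ⊔ Subgroup.zpowers r : Subgroup G) => ψ h)
      ⟨r, Subgroup.mem_sup_right (Subgroup.mem_zpowers r)⟩ := by
  have hz : Subgroup.zpowers r ≤ H := (Subgroup.zpowers_le).2 hr
  rw [Cov.cc_eq (E.irr_mid le_sup_left (sup_le E.le hz)), ← om_fs]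
  have e : cl I r = Subtype.val '' {x : (I ⊔ Subgroup.zpowers r : Subgroup G) |
      IsConj (⟨r, Subgroup.mem_sup_right (Subgroup.mem_zpowers r)⟩ : (I ⊔ Subgroup.zpowers r : Subgroup G)) x} := by
    ext v
    constructor
    · rintro ⟨n, hn, rfl⟩
      exact ⟨_, isConj_iff.2 ⟨⟨n, Subgroup.mem_sup_left hn⟩, rfl⟩, rfl⟩
    · rintro ⟨x, hx, rfl⟩
      obtain ⟨c, rfl⟩ := isConj_iff.1 hx
      have hc : (c : G) ∈ ((I ⊔ Subgroup.zpowers r : Subgroup G) : Set G) := c.2
      rw [Subgroup.coe_mul_of_right_le_normalizer_left _ _ (hz.trans E.nrm)] at hc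
      obtain ⟨i, hi, y, ⟨k, rfl⟩, h⟩ := hc
      refine ⟨i, hi, ?_⟩
      show (c : G) * r * (c : G)⁻¹ = _
      rw [← h]
      show i * r ^ k * r * (i * r ^ k)⁻¹ = _
      group
  rw [e, finsum_mem_image Subtype.val_injective.injOn]
  rfl

theorem om_cl_zero (E : Ex H I ψ) {r : G} (hr : r ∉ H) : om ψ (ind (cl I r)) = 0 := by
  rw [om_def, Finset.sum_eq_zero, zero_div]
  intro g _
  by_cases hg : g ∈ cl I r
  · obtain ⟨n, hn, rfl⟩ := hg
    rw [E.cj (E.le hn), E.zero r hr, mul_zero]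
  · rw [ind_of_notMem hg, zero_mul]

variable [M.IsPrime]

theorem ring_cl (E : Ex H I ψ) (r : G) : MemLocalRing M (om ψ (ind (cl I r))) := by
  by_cases hr : r ∈ H
  · rw [E.om_cl hr]
    exact memLocalRing_of_isIntegral (Blocks.CentralScalar.isIntegral_centralChar
      (E.irr_mid le_sup_left (sup_le E.le (Subgroup.zpowers_le.2 hr))) _)
  · rw [E.om_cl_zero hr]
    exact memLocalRing_zero

theorem ring (E : Ex H I ψ) {z : G → ℂ} (hz : Iv I z) (hi : Ig M z) : MemLocalRing M (om ψ z) := by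
  obtain ⟨s, hs⟩ := exists_reps I
  rw [hs ψ z hz]
  exact memLocalRing_sum fun r _ => memLocalRing_mul (hi r) (E.ring_cl r)

theorem ideal (E : Ex H I ψ) {z : G → ℂ} (hz : Iv I z) (hi : ∀ g, MemLocalIdeal M (z g)) :
    MemLocalIdeal M (om ψ z) :=
  om_ideal hz fun r => memLocalIdeal_mul_right (hi r) (E.ring_cl r)

/-- classes outside of the centralizer of a normal `p`-subgroup -/
theorem ideal_cl [Fact p.Prime] (hM : IsPModular p M) (E : Ex H I ψ) {Q : Subgroup G} (hQ : IsPGroup p Q)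
    (hQI : Q ≤ I) (hn : H ≤ Subgroup.normalizer (Q : Set G)) {r : G} (hr : r ∉ Ce Q) :
    MemLocalIdeal M (om ψ (ind (cl I r))) := by
  by_cases hH : r ∈ H
  swap
  · rw [E.om_cl_zero hH]
    exact memLocalIdeal_zero
  have hR : I ⊔ Subgroup.zpowers r ≤ H := sup_le E.le (Subgroup.zpowers_le.2 hH)
  have hQR : Q ≤ I ⊔ Subgroup.zpowers r := hQI.trans le_sup_left
  have : (Q.subgroupOf (I ⊔ Subgroup.zpowers r)).Normal :=
    (Subgroup.normal_subgroupOf_iff_le_normalizer hQR).2 (hR.trans hn)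
  rw [E.om_cl hH]
  exact Blocks.BrauerMap.memLocalIdeal_centralChar_of_notMem hM (E.irr_mid le_sup_left hR)
    (Q.subgroupOf (I ⊔ Subgroup.zpowers r)) (hQ.of_equiv (Subgroup.subgroupOfEquivOfLe hQR).symm) _
    fun h => hr ((Cov.mem_Ce_sub hQR).1 h)

omit [M.IsPrime] in
theorem sum_H (E : Ex H I ψ) [Fintype H] (F : G → ℂ) : ∑ g, F g * ψ g = ∑ h : H, F h * ψ h := by
  classical
  rw [← Finset.sum_subtype (Finset.univ.filter (· ∈ H)) (by simp) (fun g => F g * ψ g)]
  refine (Finset.sum_subset (Finset.subset_univ _) fun g _ hg => ?_).symm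
  rw [E.zero g (by simpa using hg), mul_zero]

omit [M.IsPrime] in
/-- **multiplicativity** -/
theorem mul (E : Ex H I ψ) {C : Subgroup G} (hC : C ≤ I) {x y : G → ℂ} (hx : Iv I x)
    (hy : ∀ b, y b ≠ 0 → b ∈ H ∨ ((∀ d ∈ C, b⁻¹ * d * b ∈ C) ∧
      ∑ᶠ d : C, ψ d * (starRingEnd ℂ) (ψ (b⁻¹ * d * b)) = 0)) :
    om ψ (conv x y) = om ψ x * om ψ y := by
  classical
  obtain ⟨n, ρ, -, hρ⟩ := E.irr
  have hv : ∀ h : H, ψ h = ρ.character h := fun h => (congrFun hρ h).symm
  have hI : Representation.IsIrreducible (ρ.comp (Subgroup.inclusion E.le) : Representation ℂ I (Fin n → ℂ)) :=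
    Core.isIrreducible_of_isIrrCharacter _ (by
      have e : Representation.character (ρ.comp (Subgroup.inclusion E.le) : Representation ℂ I (Fin n → ℂ)) =
          fun h : I => ψ h := funext fun h => (hv (Subgroup.inclusion E.le h)).symm
      rw [e]
      exact E.irr0)
  -- the twisted operators
  have tw : ∀ (b : G) (d d' : H), (d : G) ∈ I → (d' : G) = b⁻¹ * d * b →
      opOf ρ (fun h : H => x (h * b⁻¹)) * ρ d' = ρ d * opOf ρ (fun h : H => x (h * b⁻¹)) := by
    intro b d d' hd h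
    rw [opOf_def, Finset.sum_mul, Finset.mul_sum, ← Equiv.sum_comp (Equiv.mulLeft d), ← Equiv.sum_comp (Equiv.mulRight d'⁻¹)]
    refine Finset.sum_congr rfl fun a _ => ?_
    simp only [Equiv.coe_mulLeft, Equiv.coe_mulRight, smul_mul_assoc, mul_smul_comm, ← map_mul]
    rw [show d * (a * d'⁻¹) * d' = d * a by group]
    congr 1
    rw [← hx d hd (a * b⁻¹)]
    congr 1
    simp only [Subgroup.coe_mul, Subgroup.coe_inv, h]
    group
  have tr : ∀ b : G, ∑ a, x a * ψ (a * b) = LinearMap.trace ℂ _ (opOf ρ fun h : H => x (h * b⁻¹)) := by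
    intro b
    rw [trace_opOf, ← Equiv.sum_comp (Equiv.mulRight b⁻¹)]
    simp only [Equiv.coe_mulRight, inv_mul_cancel_right]
    rw [E.sum_H fun g => x (g * b⁻¹)]
    exact Finset.sum_congr rfl fun h _ => by rw [hv]
  obtain ⟨c, hc⟩ := Blocks.ClassScalar.exists_smul_of_commute _ hI (opOf ρ fun h : H => x (h * 1⁻¹)) fun i =>
    tw 1 (Subgroup.inclusion E.le i) (Subgroup.inclusion E.le i) i.2 (by simp)
  have hb : ∀ b ∈ H, ∑ a, x a * ψ (a * b) = c * ψ b := by
    intro b hb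
    have h1 : opOf ρ (fun h : H => x (h * b⁻¹)) = opOf ρ (fun h : H => x (h * 1⁻¹)) * ρ ⟨b, hb⟩ := by
      rw [opOf_def, opOf_def, Finset.sum_mul, ← Equiv.sum_comp (Equiv.mulRight (⟨b, hb⟩ : H))]
      refine Finset.sum_congr rfl fun a _ => ?_
      simp only [Equiv.coe_mulRight, smul_mul_assoc, ← map_mul, Subgroup.coe_mul, mul_inv_cancel_right, inv_one,
        mul_one]
    rw [tr, h1, hc, smul_mul_assoc, one_mul, map_smul, smul_eq_mul, hv ⟨b, hb⟩]
    rfl
  have hc' : om ψ x = c := by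
    have h1 := hb 1 (one_mem H)
    simp only [mul_one] at h1
    rw [om_def, h1, mul_div_cancel_right₀ _ E.one_ne]
  have key : ∀ b, y b * ∑ a, x a * ψ (a * b) = c * (y b * ψ b) := by
    intro b
    by_cases h0 : y b = 0
    · rw [h0, zero_mul, zero_mul, mul_zero]
    by_cases hbH : b ∈ H
    · rw [hb b hbH, mul_left_comm]
    obtain ⟨h1, h2⟩ := (hy b h0).resolve_left hbH
    let f : C →* H := Subgroup.inclusion (hC.trans E.le)
    let f' : C →* H := f.comp (((MulAut.conj b⁻¹).toMonoidHom.comp C.subtype).codRestrict C fun d => by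
      simpa using h1 d d.2)
    have hf' : ∀ d : C, (f' d : G) = b⁻¹ * d * b := fun d => by simp [f', f]
    have h3 := Blocks.CliffordCentral.classInner_eq_finrank (ρ.comp f : Representation ℂ C (Fin n → ℂ))
      (ρ.comp f' : Representation ℂ C (Fin n → ℂ))
    have h4 : classInner (Representation.character (ρ.comp f : Representation ℂ C (Fin n → ℂ)))
        (Representation.character (ρ.comp f' : Representation ℂ C (Fin n → ℂ))) = 0 := by
      rw [Core.classInner_def, ← finsum_eq_sum_of_fintype]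
      have e : ∀ d : C, Representation.character (ρ.comp f : Representation ℂ C (Fin n → ℂ)) d *
          (starRingEnd ℂ) (Representation.character (ρ.comp f' : Representation ℂ C (Fin n → ℂ)) d) =
          ψ d * (starRingEnd ℂ) (ψ (b⁻¹ * d * b)) := fun d => by
        rw [← hf' d, hv (f' d)]
        exact congrArg (· * _) (hv (f d)).symm
      rw [finsum_congr e, h2, mul_zero]
    rw [h4] at h3
    have h5 : Subsingleton (Representation.IntertwiningMap (ρ.comp f' : Representation ℂ C (Fin n → ℂ))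
        (ρ.comp f : Representation ℂ C (Fin n → ℂ))) := Module.finrank_zero_iff.1 (by exact_mod_cast h3.symm)
    have h6 := congrArg Representation.IntertwiningMap.toLinearMap (h5.elim
      ⟨opOf ρ fun h : H => x (h * b⁻¹), fun d => tw b (f d) (f' d) (hC d.2) (hf' d)⟩ 0)
    have h7 : (opOf ρ fun h : H => x (h * b⁻¹)) = 0 := h6
    rw [tr, h7, map_zero, E.zero b hbH, mul_zero, mul_zero]
  rw [hc', om_def, om_def, ← mul_div_assoc, Finset.mul_sum, ← Finset.sum_congr rfl fun b _ => key b]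
  congr 1
  simp only [conv_apply, Finset.sum_mul, Finset.mul_sum]
  rw [Finset.sum_comm, Finset.sum_comm (f := fun b a => y b * (x a * ψ (a * b)))]
  refine Finset.sum_congr rfl fun a _ => ?_
  rw [← Equiv.sum_comp (Equiv.mulLeft a)]
  refine Finset.sum_congr rfl fun b _ => ?_
  simp only [Equiv.coe_mulLeft, inv_mul_cancel_left]
  ring

end Ex

/-- truncation to the centralizer -/
noncomputable def tr (Q : Subgroup G) (z : G → ℂ) : G → ℂ := fun g => ind (Ce Q : Set G) g * z g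

omit [Fintype G] in
theorem Iv.tr {I Q : Subgroup G} {z : G → ℂ} (hz : Iv I z) (hn : I ≤ Subgroup.normalizer (Q : Set G)) :
    Iv I (tr Q z) := fun n hn' g => by
  show ind _ _ * _ = ind _ _ * _
  rw [hz n hn', ind_congr (T := (Ce Q : Set G)) (y := g) (Cov.conj_mem_Ce (hn hn'))]

omit [Fintype G] in
theorem Ig.tr [M.IsPrime] {z : G → ℂ} (hz : Ig M z) (Q : Subgroup G) : Ig M (tr Q z) := fun g =>
  memLocalRing_mul (ig_ind _ g) (hz g)

/-- the Brauer map is multiplicative -/
theorem tr_conv [M.IsPrime] [Fact p.Prime] (hM : IsPModular p M) {Q : Subgroup G} (hQ : IsPGroup p Q) {x y : G → ℂ}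
    (hx : Iv Q x) (hy : Iv Q y) (hx' : Ig M x) (hy' : Ig M y) (g : G) :
    MemLocalIdeal M (tr Q (conv x y) g - conv (tr Q x) (tr Q y) g) := by
  classical
  by_cases hg : g ∈ Ce Q
  · obtain ⟨a, ha⟩ := Blocks.OrbitSum.sum_eq_sum_centralizer_add_smul (p := p) Q hQ
      (fun a : G => (⟨x a * y (a⁻¹ * g), memLocalRing_mul (hx' _) (hy' _)⟩ : localRing M)) (by
        intro u hu a
        apply Subtype.ext
        show x (u * a * u⁻¹) * y ((u * a * u⁻¹)⁻¹ * g) = x a * y (a⁻¹ * g)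
        have h1 : u * g = g * u := Cov.mem_Ce.1 hg u hu
        have h2 : (u * a * u⁻¹)⁻¹ * g = u * (a⁻¹ * g) * u⁻¹ := by
          calc (u * a * u⁻¹)⁻¹ * g = u * a⁻¹ * u⁻¹ * (g * u) * u⁻¹ := by group
            _ = u * (a⁻¹ * g) * u⁻¹ := by rw [← h1]; group
        rw [hx u hu, h2, hy u hu])
    have h1 := congrArg (fun z : localRing M => (z : ℂ)) ha
    simp only [nsmul_eq_mul, Subring.coe_add, Subring.coe_mul, Subring.coe_natCast,
      AddSubmonoidClass.coe_finsetSum] at h1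
    have h2 : conv (tr Q x) (tr Q y) g = ∑ a ∈ Finset.univ.filter (· ∈ Ce Q), x a * y (a⁻¹ * g) := by
      rw [conv_apply, Finset.sum_filter]
      refine Finset.sum_congr rfl fun a _ => ?_
      by_cases ha : a ∈ Ce Q
      · rw [if_pos ha, tr, tr, ind_of_mem (S := (Ce Q : Set G)) ha,
          ind_of_mem (S := (Ce Q : Set G)) (mul_mem (inv_mem ha) hg), one_mul, one_mul]
      · rw [if_neg ha, tr, ind_of_notMem (S := (Ce Q : Set G)) ha, zero_mul, zero_mul]
    rw [h2, tr, ind_of_mem (S := (Ce Q : Set G)) hg, one_mul, conv_apply, h1, add_sub_cancel_left]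
    exact memLocalIdeal_mul_right (memLocalIdeal_p hM) a.2
  · rw [tr, ind_of_notMem (S := (Ce Q : Set G)) hg, zero_mul, conv_apply, Finset.sum_eq_zero, sub_zero]
    · exact memLocalIdeal_zero
    intro a _
    by_cases ha : a ∈ Ce Q
    · rw [tr, tr, ind_of_notMem (S := (Ce Q : Set G)) (x := a⁻¹ * g) fun h => hg (by simpa using mul_mem ha h),
        zero_mul, mul_zero]
    · rw [tr, ind_of_notMem (S := (Ce Q : Set G)) ha, zero_mul, zero_mul]

end Cfsg.Agent.BH.Kap
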