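import Cfsg.Agent.BH.Kap.A
import Cfsg.Agent.Blocks.Residue
import Cfsg.Agent.Characters.Linear
import Cfsg.Agent.S0864

/-!
# BH, Kap (helper33): the ramification group and the linear character `κ`

The two central characters are multiplicative modulo the local ideal on the graded algebra of the invariant
functions; their quotient is a linear character of the subgroup `Dd` of the degrees which contain a unit.
-/

set_option autoImplicit false

namespace Cfsg.Agent.BH.Kap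

open Cfsg Cfsg.Agent.Blocks.Local Cfsg.Agent.Characters Cfsg.Agent.TO
open Cfsg.Agent.Blocks.ConvCentral (conv lin conv_apply)
open Cfsg.Agent.Blocks.BrauerMap (ind ind_of_mem ind_of_notMem)

variable {G : Type} [Group G] {p : ℕ} {M : Ideal AlgInt}

theorem mem_cop (H : Subgroup G) {x : G} {a b : ℕ} (h : a.Coprime b) (ha : x ^ a ∈ H) (hb : x ^ b ∈ H) : x ∈ H := by
  obtain ⟨u, v, huv⟩ := Nat.isCoprime_iff_coprime.2 h
  have h1 : x = (x ^ a) ^ u * (x ^ b) ^ v := by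
    rw [← zpow_natCast, ← zpow_natCast, ← zpow_mul, ← zpow_mul, ← zpow_add, mul_comm (a : ℤ), mul_comm (b : ℤ), huv,
      zpow_one]
  rw [h1]
  exact mul_mem (zpow_mem ha u) (zpow_mem hb v)

/-- extension of an invariant linear character of order prime to `p` -/
theorem ext_lin [Finite G] [hp : Fact p.Prime] (D : Subgroup G) [hD : D.Normal] (κ : D →* ℂˣ)
    (hi : ∀ (g : G) (d : D), κ ⟨g * d * g⁻¹, hD.conj_mem d d.2 g⟩ = κ d) {m : ℕ} (hm : ¬ p ∣ m)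
    (hκ : ∀ d, κ d ^ m = 1) (K : Subgroup G) [K.Normal] (hK : ∀ x ∈ K, ∃ k : ℕ, x ^ p ^ k ∈ D) (y : G)
    (hy : ∀ g : G, ∃ k j : ℕ, g ^ p ^ k * (y ^ j)⁻¹ ∈ K) : ∃ μ : G →* ℂˣ, ∀ d : D, μ d = κ d := by
  have h1 := Linear.isIrrCharacter_hom κ
  obtain ⟨μ, h2, h3, h4⟩ := S0864.result D (fun d => (κ d : ℂ)) ⟨Core.isIrr_isCharacter h1, by simp⟩
    (fun g d => by rw [hi]) (by
      intro q hq hd
      have : Fact q.Prime := ⟨hq⟩
      have hqp : q ≠ p := by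
        rintro rfl
        refine hm (hd.trans (orderOf_dvd_of_pow_eq_one (funext fun d => ?_)))
        show (κ d : ℂ) ^ m = 1
        rw [← Units.val_pow_eq_pow_val, hκ, Units.val_one]
      have hc : ∀ a b : ℕ, (q ^ a).Coprime (p ^ b) := fun a b =>
        Nat.Coprime.pow a b ((Nat.coprime_primes hq hp.out).2 hqp)
      obtain ⟨P0⟩ : Nonempty (Sylow q (G ⧸ D)) := inferInstance
      let P : Subgroup G := (P0 : Subgroup (G ⧸ D)).comap (QuotientGroup.mk' D)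
      have hDP : D ≤ P := fun d hd => by
        show QuotientGroup.mk' D d ∈ (P0 : Subgroup (G ⧸ D))
        rw [QuotientGroup.mk'_apply, (QuotientGroup.eq_one_iff d).2 hd]
        exact one_mem _
      have hq1 : ∀ x : P, ∃ a : ℕ, (x : G) ^ q ^ a ∈ D := fun x => by
        obtain ⟨a, ha⟩ := P0.isPGroup' ⟨_, x.2⟩
        refine ⟨a, (QuotientGroup.eq_one_iff _).1 ?_⟩
        simpa using congrArg Subtype.val ha
      let φ : P →* G ⧸ (K ⊔ D) := (QuotientGroup.mk' (K ⊔ D)).comp P.subtype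
      have hr : ∀ x : P, φ x ∈ Subgroup.zpowers (QuotientGroup.mk' (K ⊔ D) y) := fun x => by
        obtain ⟨a, ha⟩ := hq1 x
        obtain ⟨k, j, hk⟩ := hy x
        refine mem_cop _ (hc a k) ?_ ?_
        · rw [← map_pow, show φ (x ^ q ^ a) = 1 from (QuotientGroup.eq_one_iff _).2 (Subgroup.mem_sup_right ha)]
          exact one_mem _
        · have h5 : QuotientGroup.mk' (K ⊔ D) ((x : G) ^ p ^ k * (y ^ j)⁻¹) = 1 :=
            (QuotientGroup.eq_one_iff _).2 (Subgroup.mem_sup_left hk)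
          rw [map_mul, map_inv, mul_inv_eq_one, map_pow, map_pow] at h5
          exact (show φ x ^ p ^ k = _ from h5) ▸ Subgroup.npow_mem_zpowers _ j
      have hcyc : IsCyclic (P ⧸ D.subgroupOf P) := by
        refine isCyclic_of_injective (QuotientGroup.lift (D.subgroupOf P) (φ.codRestrict _ hr) fun x hx =>
          Subtype.ext ((QuotientGroup.eq_one_iff _).2 (Subgroup.mem_sup_right hx))) ?_
        rw [injective_iff_map_eq_one]
        intro x hx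
        obtain ⟨x, rfl⟩ := QuotientGroup.mk_surjective x
        have h5 : (x : G) ∈ K ⊔ D := (QuotientGroup.eq_one_iff _).1 (congrArg Subtype.val hx)
        obtain ⟨k, hk, d, hd, h6⟩ := Subgroup.mem_sup_of_normal_left.1 h5
        obtain ⟨a, ha⟩ := hq1 x
        obtain ⟨j, hj⟩ := hK k hk
        refine (QuotientGroup.eq_one_iff _).2 (mem_cop D (hc a j) ha ((QuotientGroup.eq_one_iff _).1 ?_))
        show (((x : G) ^ p ^ j : G) : G ⧸ D) = 1
        rw [← h6, QuotientGroup.mk_pow, QuotientGroup.mk_mul, (QuotientGroup.eq_one_iff d).2 hd, mul_one,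
          ← QuotientGroup.mk_pow]
        exact (QuotientGroup.eq_one_iff _).2 hj
      obtain ⟨ν, h5, h6⟩ := S0886.result (D.subgroupOf P) hcyc (fun d => (κ ⟨d.1, d.2⟩ : ℂ))
        (Linear.isIrrCharacter_hom (κ.comp (Subgroup.subgroupOfEquivOfLe hDP).toMonoidHom))
        fun g d => congrArg Units.val (hi g ⟨d.1, d.2⟩)
      obtain ⟨k, hk⟩ := IsPGroup.iff_card.1 P0.isPGroup'
      refine ⟨P, hDP, ν, ?_, ⟨k, ?_⟩, Core.isIrr_isCharacter h5, ?_, fun d => h6 ⟨⟨d, hDP d.2⟩, d.2⟩⟩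
      · rw [Subgroup.index_comap_of_surjective _ (QuotientGroup.mk'_surjective D)]
        exact ((Nat.Prime.coprime_iff_not_dvd hq).2 P0.not_dvd_index).symm
      · have h7 := Subgroup.relIndex_ker P (QuotientGroup.mk' D)
        rw [QuotientGroup.ker_mk', Subgroup.map_comap_eq_self_of_surjective (QuotientGroup.mk'_surjective D)] at h7
        exact h7.trans hk
      · exact (h6 1).trans (congrArg Units.val κ.map_one))
  obtain ⟨f, rfl⟩ := Linear.exists_hom_of_isCharacter h2 h3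
  exact ⟨f, fun d => Units.ext (h4 d)⟩

variable [Fintype G]

/-- homogeneous elements of the algebra of invariant functions -/
structure Gr (M : Ideal AlgInt) (N : Subgroup G) (q : G ⧸ N) (z : G → ℂ) : Prop where
  iv : Iv N z
  ig : Ig M z
  sp : ∀ g, z g ≠ 0 → (g : G ⧸ N) = q

/-- the data of the comparison -/
structure Dat (p : ℕ) (M : Ideal AlgInt) (N H Q : Subgroup G) (ψ ψ' : G → ℂ) : Prop where
  hM : IsPModular p M
  e1 : Ex ⊤ N ψ
  e2 : Ex H (N ⊓ H) ψ'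
  pg : IsPGroup p Q
  QI : Q ≤ N ⊓ H
  nrm : H ≤ Subgroup.normalizer (Q : Set G)
  CH : N ⊓ Ce Q ≤ H
  dis : ∀ b ∈ Ce Q, b ∉ H →
    ∑ᶠ d : (N ⊓ Ce Q : Subgroup G), ψ' d * (starRingEnd ℂ) (ψ' (b⁻¹ * d * b)) = 0
  one : ∀ n ∈ N, MemLocalIdeal M (om ψ (ind (cl N n)) - om ψ' (ind (cl N n)))
  top : N ⊔ H = ⊤

variable [M.IsPrime] {N H Q : Subgroup G} [hN : N.Normal] {ψ ψ' : G → ℂ}

theorem Gr.conv {q q' : G ⧸ N} {x y : G → ℂ} (hx : Gr M N q x) (hy : Gr M N q' y) : Gr M N (q * q') (conv x y) := by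
  refine ⟨hx.iv.conv hy.iv, hx.ig.conv hy.ig, fun g hg => ?_⟩
  obtain ⟨a, -, ha⟩ := Finset.exists_ne_zero_of_sum_ne_zero hg
  rw [← hx.sp a (left_ne_zero_of_mul ha), ← hy.sp _ (right_ne_zero_of_mul ha), ← QuotientGroup.mk_mul,
    mul_inv_cancel_left]

omit [Fintype G] in
theorem mk_cl {v w : G} (h : v ∈ cl N w) : (v : G ⧸ N) = w := by
  obtain ⟨n, hn, rfl⟩ := h
  rw [QuotientGroup.mk_mul, QuotientGroup.mk_mul, (QuotientGroup.eq_one_iff n).2 hn,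
    (QuotientGroup.eq_one_iff n⁻¹).2 (inv_mem hn), one_mul, mul_one]

omit [Fintype G] in
theorem gr_cl (w : G) : Gr M N (w : G ⧸ N) (ind (cl N w)) :=
  ⟨iv_cl N w, ig_ind _, fun _ hg => mk_cl (by_contra fun h => hg (ind_of_notMem h))⟩

omit [Fintype G] [M.IsPrime] in
theorem Gr.cj {w : G} {z : G → ℂ} (h : Gr M N (w : G ⧸ N) z) (g : G) :
    Gr M N ((g * w * g⁻¹ : G) : G ⧸ N) fun v => z (g⁻¹ * v * g) := by
  refine ⟨fun n hn v => ?_, fun v => h.ig _, fun v hv => ?_⟩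
  · show z _ = z _
    rw [← h.iv (g⁻¹ * n * g⁻¹⁻¹) (hN.conj_mem n hn g⁻¹) (g⁻¹ * v * g)]
    congr 1
    group
  · rw [QuotientGroup.mk_mul, QuotientGroup.mk_mul, ← h.sp _ hv, ← QuotientGroup.mk_mul, ← QuotientGroup.mk_mul]
    congr 1
    group

omit [M.IsPrime] hN in
theorem Ex.om_cj {I : Subgroup G} (E : Ex H I ψ) {g : G} (hg : g ∈ H) (z : G → ℂ) :
    (om ψ fun v => z (g⁻¹ * v * g)) = om ψ z := by
  rw [om_def, om_def, ← (MulAut.conj g).toEquiv.sum_comp]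
  refine congrArg (· / ψ 1) (Finset.sum_congr rfl fun v _ => ?_)
  show z (g⁻¹ * (g * v * g⁻¹) * g) * ψ (g * v * g⁻¹) = _
  rw [E.cj hg, show g⁻¹ * (g * v * g⁻¹) * g = v by group]

omit [M.IsPrime] hN in
theorem om_one (h : ψ 1 ≠ 0) : om ψ (ind (cl N 1)) = 1 := by
  have e : cl N 1 = {1} := Set.ext fun v => ⟨by rintro ⟨n, -, rfl⟩; simp, by rintro rfl; exact self_mem_cl N 1⟩
  rw [← om_fs, e, finsum_mem_singleton, div_self h]

namespace Dat

variable [Fact p.Prime] (D : Dat p M N H Q ψ ψ')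
include D

omit hN [Fact p.Prime] in
theorem ring1 {q : G ⧸ N} {z : G → ℂ} (h : Gr M N q z) : MemLocalRing M (om ψ z) := D.e1.ring h.iv h.ig

omit hN [Fact p.Prime] in
theorem ring2 {q : G ⧸ N} {z : G → ℂ} (h : Gr M N q z) : MemLocalRing M (om ψ' z) :=
  D.e2.ring (h.iv.mono inf_le_left) h.ig

omit hN in
theorem trunc {z : G → ℂ} (h : Iv (N ⊓ H) z) (h' : Ig M z) : MemLocalIdeal M (om ψ' z - om ψ' (tr Q z)) := by
  rw [← om_sub]
  refine om_ideal (N := N ⊓ H) (fun n hn g => ?_) fun r => ?_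
  · show z _ - tr Q z _ = _
    rw [h n hn, h.tr (inf_le_right.trans D.nrm) n hn]
  · by_cases hr : r ∈ Ce Q
    · rw [tr, ind_of_mem (S := (Ce Q : Set G)) hr, one_mul, sub_self, zero_mul]
      exact memLocalIdeal_zero
    · exact memLocalIdeal_mul_left (memLocalRing_sub (h' r) (h'.tr Q r)) (D.e2.ideal_cl D.hM D.pg D.QI D.nrm hr)

omit [Fact p.Prime] hN [M.IsPrime] in
theorem mul1 {x : G → ℂ} (hx : Iv N x) (y : G → ℂ) : om ψ (conv x y) = om ψ x * om ψ y :=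
  D.e1.mul le_rfl hx fun _ _ => Or.inl (Subgroup.mem_top _)

theorem mul2 {q q' : G ⧸ N} {x y : G → ℂ} (hx : Gr M N q x) (hy : Gr M N q' y) :
    redC M (om ψ' (conv x y)) = redC M (om ψ' x) * redC M (om ψ' y) := by
  have hn : N ⊓ H ≤ Subgroup.normalizer (Q : Set G) := inf_le_right.trans D.nrm
  have hx1 := hx.iv.mono (inf_le_left (b := H))
  have hy1 := hy.iv.mono (inf_le_left (b := H))
  have h1 : om ψ' (conv (tr Q x) (tr Q y)) = om ψ' (tr Q x) * om ψ' (tr Q y) := by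
    refine D.e2.mul (C := N ⊓ Ce Q) (le_inf inf_le_left D.CH) (hx1.tr hn) fun b hb => ?_
    have h2 : b ∈ Ce Q := by_contra fun h => hb (by rw [tr, ind_of_notMem (S := (Ce Q : Set G)) h, zero_mul])
    by_cases h3 : b ∈ H
    · exact Or.inl h3
    · exact Or.inr ⟨fun d hd => ⟨by simpa using hN.conj_mem d hd.1 b⁻¹,
        (Ce Q).mul_mem ((Ce Q).mul_mem ((Ce Q).inv_mem h2) hd.2) h2⟩,
        D.dis b h2 h3⟩
  have h2 : MemLocalIdeal M (om ψ' (tr Q (conv x y)) - om ψ' (conv (tr Q x) (tr Q y))) := by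
    rw [← om_sub]
    refine D.e2.ideal (fun n hn' g => ?_)
      (tr_conv D.hM D.pg (hx1.mono D.QI) (hy1.mono D.QI) hx.ig hy.ig)
    show tr Q _ _ - conv _ _ _ = _
    rw [(hx1.conv hy1).tr hn n hn', (hx1.tr hn).conv (hy1.tr hn) n hn']
  rw [← redC_mul (D.ring2 hx) (D.ring2 hy), redC_eq_iff (D.ring2 (hx.conv hy))
    (memLocalRing_mul (D.ring2 hx) (D.ring2 hy))]
  refine memLocalIdeal_sub_trans (memLocalIdeal_sub_trans (D.trunc (hx1.conv hy1) (hx.ig.conv hy.ig)) h2) ?_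
  rw [h1]
  exact memLocalIdeal_sub_comm (memLocalIdeal_mul_sub_mul (D.ring2 hx) (D.e2.ring (hy1.tr hn) (hy.ig.tr Q))
    (D.trunc hx1 hx.ig) (D.trunc hy1 hy.ig))

omit [Fact p.Prime] in
theorem deg_one {z : G → ℂ} (h : Gr M N 1 z) : redC M (om ψ z) = redC M (om ψ' z) := by
  rw [redC_eq_iff (D.ring1 h) (D.ring2 h), ← one_mul (om ψ' z)]
  refine om_sub_ideal h.iv 1 fun r => ?_
  by_cases hr : z r = 0
  · rw [hr, zero_mul]
    exact memLocalIdeal_zero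
  · rw [one_mul]
    exact memLocalIdeal_mul_left (h.ig r) (D.one r ((QuotientGroup.eq_one_iff r).1 (h.sp r hr)))

theorem exists_pow {q : G ⧸ N} {x : G → ℂ} (hx : Gr M N q x) (n : ℕ) : ∃ z, Gr M N (q ^ (n + 1)) z ∧
    redC M (om ψ z) = redC M (om ψ x) ^ (n + 1) ∧ redC M (om ψ' z) = redC M (om ψ' x) ^ (n + 1) := by
  induction n with
  | zero => exact ⟨x, by simpa using hx, by simp, by simp⟩
  | succ n ih =>
    obtain ⟨z, h1, h2, h3⟩ := ih
    refine ⟨conv z x, pow_succ q (n + 1) ▸ h1.conv hx, ?_, ?_⟩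
    · rw [D.mul1 h1.iv, redC_mul (D.ring1 h1) (D.ring1 hx), h2, ← pow_succ]
    · rw [D.mul2 h1 hx, h3, ← pow_succ]

theorem exists_inv {q : G ⧸ N} {x : G → ℂ} (hx : Gr M N q x) : ∃ (n : ℕ) (z : G → ℂ), Gr M N q⁻¹ z ∧
    redC M (om ψ z) = redC M (om ψ x) ^ (n + 1) ∧ redC M (om ψ' z) = redC M (om ψ' x) ^ (n + 1) := by
  obtain ⟨m, hm⟩ := Nat.exists_eq_succ_of_ne_zero (Nat.card_pos (α := G ⧸ N)).ne'
  obtain ⟨z, h1, h2⟩ := D.exists_pow hx (2 * m)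
  refine ⟨2 * m, z, ?_, h2⟩
  rwa [eq_inv_of_mul_eq_one_left (a := q ^ (2 * m + 1)) (b := q)] at h1
  rw [← pow_succ, show 2 * m + 1 + 1 = (m + 1) * 2 by ring, pow_mul, ← Nat.succ_eq_add_one, ← hm, pow_card_eq_one',
    one_pow]

theorem ratio {q : G ⧸ N} {x : G → ℂ} (hx : Gr M N q x) : ∃ n : ℕ, ∀ y, Gr M N q y →
    redC M (om ψ x) ^ (n + 1) * redC M (om ψ y) = redC M (om ψ' x) ^ (n + 1) * redC M (om ψ' y) := by
  obtain ⟨n, z, h1, h2, h3⟩ := D.exists_inv hx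
  refine ⟨n, fun y hy => ?_⟩
  have h4 := D.deg_one (inv_mul_cancel q ▸ h1.conv hy)
  rwa [D.mul1 h1.iv, redC_mul (D.ring1 h1) (D.ring1 hy), D.mul2 h1 hy, h2, h3] at h4

theorem zero_iff {q : G ⧸ N} {x : G → ℂ} (hx : Gr M N q x) : redC M (om ψ x) = 0 ↔ redC M (om ψ' x) = 0 := by
  obtain ⟨n, h⟩ := D.ratio hx
  have h1 := h x hx
  rw [← pow_succ, ← pow_succ] at h1
  rw [← pow_eq_zero_iff (n := n + 1 + 1) (by omega), h1, pow_eq_zero_iff (by omega)]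

theorem prop {q : G ⧸ N} {x y : G → ℂ} (hx : Gr M N q x) (hy : Gr M N q y) (h0 : redC M (om ψ x) ≠ 0)
    {c : ResField M} (hc : redC M (om ψ x) = c * redC M (om ψ' x)) : redC M (om ψ y) = c * redC M (om ψ' y) := by
  obtain ⟨n, h⟩ := D.ratio hx
  have h1 := h x hx
  have h2 := h y hy
  have h3 : redC M (om ψ' x) ≠ 0 := fun h => h0 ((D.zero_iff hx).2 h)
  have h4 : redC M (om ψ x) ^ (n + 1) * c = redC M (om ψ' x) ^ (n + 1) := by
    refine mul_right_cancel₀ h3 ?_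
    rw [← h1, mul_assoc, ← hc]
  refine mul_left_cancel₀ (pow_ne_zero (n + 1) h0) ?_
  rw [h2, ← h4, mul_assoc]

/-- the ramification group -/
def Dd : Subgroup G where
  carrier := {w | ∃ z, Gr M N (w : G ⧸ N) z ∧ redC M (om ψ z) ≠ 0}
  one_mem' := ⟨_, gr_cl 1, by rw [om_one D.e1.one_ne, redC_one]; exact one_ne_zero⟩
  mul_mem' := by
    rintro a b ⟨x, hx, h1⟩ ⟨y, hy, h2⟩
    refine ⟨_, hx.conv hy, ?_⟩
    rw [D.mul1 hx.iv, redC_mul (D.ring1 hx) (D.ring1 hy)]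
    exact mul_ne_zero h1 h2
  inv_mem' := by
    rintro a ⟨x, hx, h1⟩
    obtain ⟨n, z, h2, h3, -⟩ := D.exists_inv hx
    exact ⟨z, h2, h3 ▸ pow_ne_zero _ h1⟩

theorem mem_Dd {w : G} : w ∈ D.Dd ↔ ∃ z, Gr M N (w : G ⧸ N) z ∧ redC M (om ψ z) ≠ 0 := Iff.rfl

theorem le_Dd : N ≤ D.Dd := fun n hn => by
  have h := D.mem_Dd.1 D.Dd.one_mem
  rw [D.mem_Dd, (QuotientGroup.eq_one_iff n).2 hn]
  exact h

theorem normal_Dd : D.Dd.Normal := ⟨by
  rintro w ⟨z, h1, h2⟩ g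
  exact ⟨_, h1.cj g, by rwa [D.e1.om_cj (Subgroup.mem_top g)]⟩⟩

/-- `ζ` is the quotient of the central characters in the degree `q` -/
def Kp (_ : Dat p M N H Q ψ ψ') (q : G ⧸ N) (ζ : AlgInt) : Prop :=
  (∃ m : ℕ, ¬ p ∣ m ∧ (ζ : ℂ) ^ m = 1) ∧ ∀ z, Gr M N q z → redC M (om ψ z) = redC M (ζ : ℂ) * redC M (om ψ' z)

theorem exists_Kp {w : G} (hw : w ∈ D.Dd) : ∃ ζ, D.Kp w ζ := by
  obtain ⟨x, hx, h0⟩ := hw
  have h3 : redC M (om ψ' x) ≠ 0 := fun h => h0 ((D.zero_iff hx).2 h)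
  have := isMaximal_of_isPModular D.hM
  obtain ⟨a, ha⟩ := exists_algInt_redC_eq (redC M (om ψ x) / redC M (om ψ' x))
  obtain ⟨ζ, h1, h2⟩ := Blocks.Residue.exists_root_sub_mem D.hM a fun h => div_ne_zero h0 h3
    (ha ▸ (redC_eq_zero_iff (memLocalRing_algInt a)).2 (memLocalIdeal_of_mem h))
  refine ⟨ζ, h1, fun z hz => D.prop hx hz h0 ?_⟩
  rw [← (redC_eq_iff (memLocalRing_algInt a) (memLocalRing_algInt ζ)).2 (memLocalIdeal_of_mem h2), ha,
    div_mul_cancel₀ _ h3]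

theorem Kp_unique {w : G} {ζ ζ' : AlgInt} (h : D.Kp w ζ)
    (h' : ∃ m : ℕ, ¬ p ∣ m ∧ (ζ' : ℂ) ^ m = 1) {x : G → ℂ} (hx : Gr M N (w : G ⧸ N) x) (h0 : redC M (om ψ x) ≠ 0)
    (hc : redC M (om ψ x) = redC M (ζ' : ℂ) * redC M (om ψ' x)) : ζ = ζ' := by
  have h3 : redC M (om ψ' x) ≠ 0 := fun h => h0 ((D.zero_iff hx).2 h)
  have h4 := mul_right_cancel₀ h3 ((h.2 x hx).symm.trans hc)
  rw [redC_eq_iff (memLocalRing_algInt ζ) (memLocalRing_algInt ζ')] at h4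
  exact Blocks.Residue.eq_of_sub_mem D.hM h.1 h' (memLocalIdeal_algInt_iff.1 h4)

/-- **the twist** -/
theorem exists_kappa (K : Subgroup G) [K.Normal] (hK : ∀ x ∈ K, ∃ k : ℕ, x ^ p ^ k ∈ D.Dd) (y : G)
    (hy : ∀ g : G, ∃ k j : ℕ, g ^ p ^ k * (y ^ j)⁻¹ ∈ K) : ∃ μ : G →* ℂˣ, (∀ n ∈ N, μ n = 1) ∧
      ∀ w, MemLocalIdeal M (om ψ (ind (cl N w)) - μ w * om ψ' (ind (cl N w))) := by
  classical
  have hp : p.Prime := Fact.out
  have := D.normal_Dd
  choose ζ hζ using fun w : D.Dd => D.exists_Kp w.2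
  have h1 : ∀ w : D.Dd, (w : G) ∈ N → ζ w = 1 := fun w hw => by
    refine D.Kp_unique (hζ w) ⟨1, hp.not_dvd_one, by simp⟩ (x := ind (cl N 1)) ?_ ?_ ?_
    · rw [(QuotientGroup.eq_one_iff _).2 hw]
      exact gr_cl 1
    · rw [om_one D.e1.one_ne, redC_one]
      exact one_ne_zero
    · rw [om_one D.e1.one_ne, om_one D.e2.one_ne, OneMemClass.coe_one, redC_one, one_mul]
  have h2 : ∀ a b : D.Dd, ζ (a * b) = ζ a * ζ b := fun a b => by
    obtain ⟨x, hx, h3⟩ := a.2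
    obtain ⟨z, hz, h4⟩ := b.2
    obtain ⟨m, hm, h5⟩ := (hζ a).1
    obtain ⟨m', hm', h6⟩ := (hζ b).1
    have h7 : redC M (om ψ (conv x z)) = redC M (om ψ x) * redC M (om ψ z) := by
      rw [D.mul1 hx.iv, redC_mul (D.ring1 hx) (D.ring1 hz)]
    refine D.Kp_unique (hζ (a * b)) ⟨m * m', fun h => (hp.dvd_mul.1 h).elim hm hm', ?_⟩ (hx.conv hz)
      (h7 ▸ mul_ne_zero h3 h4) ?_
    · rw [MulMemClass.coe_mul, mul_pow, pow_mul, h5, mul_comm m, pow_mul, h6, one_pow, one_pow, one_mul]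
    · rw [h7, D.mul2 hx hz, (hζ a).2 x hx, (hζ b).2 z hz, MulMemClass.coe_mul,
        redC_mul (memLocalRing_algInt _) (memLocalRing_algInt _)]
      ring
  let κ0 : D.Dd →* ℂ := ⟨⟨fun w => ζ w, by rw [h1 1 (one_mem N)]; rfl⟩, fun a b => congrArg Subtype.val (h2 a b)⟩
  choose m hm using fun w => (hζ w).1
  obtain ⟨μ, hμ⟩ := ext_lin D.Dd κ0.toHomUnits (fun g d => by
      obtain ⟨n, hn, h, hh, rfl⟩ := Subgroup.mem_sup_of_normal_left.1 (D.top ▸ Subgroup.mem_top g : g ∈ N ⊔ H)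
      obtain ⟨x, hx, h3⟩ := d.2
      have h4 : ((n * h * d * (n * h)⁻¹ : G) : G ⧸ N) = (h * d * h⁻¹ : G) :=
        mk_cl ⟨n, hn, by group⟩
      refine Units.ext (congrArg Subtype.val (D.Kp_unique (hζ ⟨_, this.conj_mem _ d.2 _⟩) (hζ d).1
        (x := fun v => x (h⁻¹ * v * h)) (h4 ▸ hx.cj h) ?_ ?_))
      · rwa [D.e1.om_cj (Subgroup.mem_top h)]
      · rw [D.e1.om_cj (Subgroup.mem_top h), D.e2.om_cj hh]
        exact (hζ d).2 x hx)
    (m := ∏ w, m w) (fun h => by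
      obtain ⟨w, -, hw⟩ := (Prime.dvd_finsetProd_iff hp.prime _).1 h
      exact (hm w).1 hw)
    (fun d => Units.ext (by
      obtain ⟨c, hc⟩ := Finset.dvd_prod_of_mem m (Finset.mem_univ d)
      show (ζ d : ℂ) ^ _ = 1
      rw [hc, pow_mul, (hm d).2, one_pow])) K hK y hy
  have h3 : ∀ w : D.Dd, (μ w : ℂ) = ζ w := fun w => by rw [hμ]; rfl
  refine ⟨μ, fun n hn => Units.ext ?_, fun w => ?_⟩
  · rw [h3 ⟨n, D.le_Dd hn⟩, h1 _ hn]
    rfl
  have h4 := gr_cl (M := M) (N := N) w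
  have h5 := Cov.lin_ring (M := M) μ w
  rw [← redC_eq_iff (D.ring1 h4) (memLocalRing_mul h5 (D.ring2 h4)), redC_mul h5 (D.ring2 h4)]
  by_cases hw : w ∈ D.Dd
  · rw [h3 ⟨w, hw⟩]
    exact (hζ ⟨w, hw⟩).2 _ h4
  · have h6 : redC M (om ψ (ind (cl N w))) = 0 := by_contra fun h => hw ⟨_, h4, h⟩
    rw [h6, (D.zero_iff h4).1 h6, mul_zero]

end Dat

end Cfsg.Agent.BH.Kap
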