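import Cfsg.Agent.BH.Kap.B
import Cfsg.Agent.BH.Reg.A
import Cfsg.Agent.BH.RZ.SA1

/-!
# BH, Kap (helper33): the local data of a root, and transport to a cover
-/

set_option autoImplicit false

namespace Cfsg.Agent.BH.Kap

open Cfsg Cfsg.Agent.Blocks.Local Cfsg.Agent.Blocks.Basic Cfsg.Agent.Characters Cfsg.Agent.TO Cfsg.Agent.TID.Red
open Cfsg.Agent.Blocks.BrauerMap (ind ind_of_mem ind_of_notMem)
open Cfsg.Agent.BH.Reg (lam rt lam_inj lam_normal mem_norm)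
open Cfsg.Agent.BH.RZ.SA (Emb)

variable {p : ℕ} [Fact p.Prime] {M : Ideal AlgInt}

theorem Ex.trunc {G : Type} [Group G] [Fintype G] [M.IsPrime] (hM : IsPModular p M) {H I Q : Subgroup G} {ψ : G → ℂ}
    (E : Ex H I ψ) (hQ : IsPGroup p Q) (hQI : Q ≤ I) (hn : H ≤ Subgroup.normalizer (Q : Set G)) {z : G → ℂ}
    (h : Iv I z) (h' : Ig M z) : MemLocalIdeal M (om ψ z - om ψ (tr Q z)) := by
  rw [← om_sub]
  refine om_ideal (N := I) (fun n hn' g => ?_) fun r => ?_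
  · show z _ - tr Q z _ = _
    rw [h n hn', h.tr (E.le.trans hn) n hn']
  · by_cases hr : r ∈ Ce Q
    · rw [tr, ind_of_mem (S := (Ce Q : Set G)) hr, one_mul, sub_self, zero_mul]
      exact memLocalIdeal_zero
    · exact memLocalIdeal_mul_left (memLocalRing_sub (h' r) (h'.tr Q r)) (E.ideal_cl hM hQ hQI hn hr)

omit [Fact p.Prime] in
theorem fs_same {G : Type} [Group G] [Finite G] [M.IsPrime] {f f' : G → ℂ} (hf : IsIrrCharacter G f)
    (hf' : IsIrrCharacter G f') (h : SameBlock M f f') (A : Set G) (hA : ∀ x ∈ A, ∀ y, IsConj x y → y ∈ A) :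
    MemLocalIdeal M (∑ᶠ x ∈ A, f x / f 1 - ∑ᶠ x ∈ A, f' x / f' 1) := by
  obtain ⟨s, hs⟩ := Cov.fs_classes A hA
  rw [hs, hs]
  refine memLocalIdeal_sum_sub_sum fun r _ => ?_
  rw [← Cov.cc_eq hf, ← Cov.cc_eq hf']
  exact h r

variable {Y : Type} [Group Y] [Finite Y] {S : Subgroup Y} [hS : S.Normal] {b : Set (IrrCharacter S)} {Q : Subgroup Y}
  {θ : Y → ℂ}

theorem memI (R : Root p M S b Q θ) (c : Ce (Q.subgroupOf S)) : ((c : S) : Y) ∈ S ⊓ In Q θ :=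
  ⟨c.1.2, Reg.mem_In_ce R c⟩

theorem embI (R : Root p M S b Q θ) : Emb (lam S Q _ (memI R)) :=
  ⟨lam_inj _, lam_normal R.le _ (inf_le_right.trans Cov.In_le_normalizer)⟩

/-- the two descriptions of `C_S(Q)` -/
def eC (R : Root p M S b Q θ) : Ce (Q.subgroupOf S) ≃* (Ce Q).subgroupOf (S ⊓ In Q θ) where
  toFun c := ⟨lam S Q _ (memI R) c, (Cov.mem_Ce_sub R.le).1 c.2⟩
  invFun x := ⟨⟨x.1.1, x.1.2.1⟩, (Cov.mem_Ce_sub R.le).2 x.2⟩
  left_inv _ := rfl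
  right_inv _ := rfl
  map_mul' _ _ := rfl

theorem loc_iff (R : Root p M S b Q θ) (η : IrrCharacter (S ⊓ In Q θ : Subgroup Y)) :
    η ∈ LocB M S Q θ ↔ ∃ ξ ∈ rt M S Q θ, Ov (lam S Q _ (memI R)) η.1 ξ.1 := by
  constructor
  · rintro ⟨ξ, h1, h2⟩
    exact ⟨H592.Transport.tr (eC R) ξ, (H649.sameBlock_map_iff (eC R).symm _ _).2 h1,
      (ov_src_iff (eC R) (fun _ => rfl) _ ξ).2 h2⟩
  · rintro ⟨ξ, h1, h2⟩
    refine ⟨H592.Transport.tr (eC R).symm ξ, (H649.sameBlock_map_iff (eC R) _ _).2 h1, ?_⟩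
    exact (ov_src_iff (eC R).symm (fun _ => rfl) _ ξ).2 h2

/-- the constituents of the members of the local block lie in the root -/
theorem all_rt (R : Root p M S b Q θ) {η : IrrCharacter (S ⊓ In Q θ : Subgroup Y)} (h : η ∈ LocB M S Q θ)
    {ζ : IrrCharacter (Ce (Q.subgroupOf S))} (hζ : Ov (lam S Q _ (memI R)) η.1 ζ.1) : ζ ∈ rt M S Q θ := by
  have := R.can.prime
  obtain ⟨ξ, h1, h2⟩ := (loc_iff R η).1 h
  obtain ⟨w, ξ', h3, h4⟩ := RZ.SA.conj_of_covH R.can.hM (embI R) (isPBlock_blockOf η) R.can.he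
    ⟨η, mem_blockOf_self η, ξ, h1, h2⟩ (mem_blockOf_self η) hζ
  refine (Reg.mem_In_iff_stab R ⟨w, Cov.In_le_normalizer w.2.2⟩).1 w.2.2 ξ' h3 ζ fun k k' hk => ?_
  rw [h4, (embI R).au_eq (k' := k') (Subtype.ext (congrArg Subtype.val hk :))]

theorem pre_dis (R : Root p M S b Q θ) {η : Y → ℂ}
    (h : (fun n : (S ⊓ In Q θ : Subgroup Y) => η n) ∈ Fn (LocB M S Q θ)) {g : Y} (hg : g ∈ Ce Q) (hg' : g ∉ In Q θ) :
    ∑ᶠ c : Ce (Q.subgroupOf S), η (c : S) * (starRingEnd ℂ) (η (g⁻¹ * (c : S) * g)) = 0 := by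
  classical
  have := R.can.prime
  have := Fintype.ofFinite (Ce (Q.subgroupOf S))
  have := Core.finite_irr (G := Ce (Q.subgroupOf S))
  have := Fintype.ofFinite (IrrCharacter (Ce (Q.subgroupOf S)))
  obtain ⟨η', h1, h2⟩ := h
  let x : Subgroup.normalizer (Q : Set Y) := ⟨g⁻¹, inv_mem (Subgroup.centralizer_le_normalizer _ hg)⟩
  obtain ⟨c, hc⟩ := Reg.exists_cj (lam_inj (mem_norm R.le)) (lam_normal R.le (mem_norm R.le) le_rfl) x
  have hc' : ∀ k, (((c k : Ce (Q.subgroupOf S)) : S) : Y) = g⁻¹ * (k : S) * g := fun k =>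
    (congrArg Subtype.val (hc k)).trans (congrArg (g⁻¹ * (k : S) * ·) (inv_inv g))
  have h3 := isCharacter_comp' (lam S Q _ (memI R)) (irr_isCharacter η'.2)
  have h4 := isCharacter_comp' ((lam S Q _ (memI R)).comp c.toMonoidHom) (irr_isCharacter η'.2)
  by_contra hne
  have h5 : classInner (fun a => η'.1 (lam S Q _ (memI R) a))
      (fun a => η'.1 (((lam S Q _ (memI R)).comp c.toMonoidHom) a)) ≠ 0 := by
    rw [Core.classInner_def]
    refine mul_ne_zero (inv_ne_zero Core.card_ne_zero_complex) fun h6 => hne ?_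
    rw [finsum_eq_sum_of_fintype, ← h6]
    refine Finset.sum_congr rfl fun k _ => ?_
    rw [← hc', h2]
    rfl
  rw [Core.classInner_eq_sum (Core.isCharacter_isClassFunction h3) (Core.isCharacter_isClassFunction h4)] at h5
  obtain ⟨ζ, -, h6⟩ := Finset.exists_ne_zero_of_sum_ne_zero h5
  have h7 := all_rt R h1 ((ov_iff _ _ _).2 (left_ne_zero_of_mul h6))
  have h8 : H592.Transport.tr c.symm ζ ∈ rt M S Q θ := by
    refine all_rt R h1 ((ov_src_iff c (ι' := (lam S Q _ (memI R)).comp c.toMonoidHom) (fun _ => rfl) _ _).1 ?_)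
    rw [H592.Transport.tr_tr_symm]
    exact (ov_iff _ _ _).2 ((map_ne_zero _).1 (right_ne_zero_of_mul h6))
  refine hg' (inv_mem_iff.1 ((Reg.mem_In_iff_stab R x).2 fun θ1 h9 θ2 h10 => ?_))
  have h11 : θ2 = H592.Transport.tr c θ1 := Subtype.ext (funext fun k => h10 k (c k) (hc k))
  have h12 := (H592.Transport.sameBlock_tr c).2 (isPBlock_sameBlock R.can.he h8 h9)
  rw [H592.Transport.tr_tr_symm, ← h11] at h12
  exact isPBlock_mem_of_sameBlock R.can.he h7 h12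

theorem pre_one (R : Root p M S b Q θ) {χ η : Y → ℂ} (hχ : (fun n : S => χ n) ∈ Fn b)
    (h : (fun n : (S ⊓ In Q θ : Subgroup Y) => η n) ∈ Fn (LocB M S Q θ)) (h0 : ∀ y, y ∉ S ⊓ In Q θ → η y = 0)
    (n : S) : MemLocalIdeal M (∑ᶠ m ∈ {m : S | IsConj n m}, χ m / χ 1 - ∑ᶠ m ∈ {m : S | IsConj n m}, η m / η 1) := by
  have := R.can.prime
  have := Fintype.ofFinite S
  obtain ⟨χ', h1, h2⟩ := hχ
  obtain ⟨η', h3, h4⟩ := h
  have hA : ∀ x ∈ {m : S | IsConj n m}, ∀ y, IsConj x y → y ∈ {m : S | IsConj n m} := fun x hx y hy => hx.trans hy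
  have h5 := Cov.ind_sum R.can.irr R.can.zero R.can.ind h1 _ hA
  rw [h2] at h5
  have hi : IsIrrCharacter ((In Q θ).subgroupOf S) fun x => η (x : S) := by
    have h6 := Core.isIrr_comp ((S.subtype.comp ((In Q θ).subgroupOf S).subtype).codRestrict (S ⊓ In Q θ)
      fun x => ⟨x.1.2, x.2⟩) (fun y => ⟨⟨⟨y.1, y.2.1⟩, y.2.2⟩, rfl⟩) η'.2
    rw [h4] at h6
    exact h6
  have E : Ex ((In Q θ).subgroupOf S) ((In Q θ).subgroupOf S) fun m : S => η m :=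
    ⟨le_rfl, Subgroup.le_normalizer, hi, hi, fun g hg => h0 _ fun h6 => hg h6.2⟩
  have h6 := E.trunc R.can.hM R.can.pg (Subgroup.comap_mono (Reg.le_In R))
    (fun x hx => Subgroup.mem_normalizer_iff.2 fun y => (hx.1 y).symm) (z := ind {m : S | IsConj n m})
    (fun a _ g => ind_congr Blocks.ConvCentral.isConj_conj_iff) (ig_ind _)
  have e1 : tr (Q.subgroupOf S) (ind {m : S | IsConj n m}) =
      ind (Subtype.val '' {c : Ce (Q.subgroupOf S) | (c : S) ∈ {m : S | IsConj n m}}) := funext fun g => by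
    by_cases hg : g ∈ Ce (Q.subgroupOf S)
    · rw [tr, ind_of_mem (S := (Ce (Q.subgroupOf S) : Set S)) hg, one_mul]
      exact ind_congr ⟨fun h7 => ⟨⟨g, hg⟩, h7, rfl⟩, by rintro ⟨c, h7, rfl⟩; exact h7⟩
    · rw [tr, ind_of_notMem (S := (Ce (Q.subgroupOf S) : Set S)) hg, zero_mul, ind_of_notMem]
      rintro ⟨c, -, rfl⟩
      exact hg c.2
  rw [e1, ← om_fs, ← om_fs, finsum_mem_image Subtype.val_injective.injOn] at h6
  obtain ⟨ξ, h7, h8⟩ := (loc_iff R η').1 h3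
  have h9 := RZ.SA.sum_over (embI R) h8 {c : Ce (Q.subgroupOf S) | (c : S) ∈ {m : S | IsConj n m}}
    fun c _ x y hxy hx => hA _ hx _ (isConj_iff.2 ⟨⟨c, c.2.1⟩, Subtype.ext (congrArg Subtype.val hxy).symm⟩)
  rw [h4] at h9
  have h10 := fs_same R.can.irr ξ.2 h7 {c : Ce (Q.subgroupOf S) | (c : S) ∈ {m : S | IsConj n m}}
    fun x hx y hy => hA _ hx _ ((Ce (Q.subgroupOf S)).subtype.map_isConj hy)
  have h11 := Cov.fs_ext (Ce (Q.subgroupOf S)) (F := fun m : S => θ m / θ 1)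
    (fun g hg => by rw [R.can.zero g hg, zero_div]) {m : S | IsConj n m}
  rw [← h9] at h10
  refine memLocalIdeal_sub_trans (memLocalIdeal_sub_comm h5) (memLocalIdeal_sub_trans ?_ (memLocalIdeal_sub_comm h6))
  exact h11 ▸ h10

/-! ### covers -/

/-- a group over `Y` with a section on `S` -/
structure Cv (S : Subgroup Y) (W : Type) [Group W] where
  π : W →* Y
  s : S →* W
  sec : ∀ n, π (s n) = n
  normal : s.range.Normal

namespace Cv

variable {W : Type} [Group W] (C : Cv S W)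

omit [Finite Y] hS in
theorem inj : Function.Injective C.s := fun a b h => Subtype.ext (by rw [← C.sec, h, C.sec])

omit [Finite Y] in
theorem cj (x : W) (n : S) : x * C.s n * x⁻¹ = C.s ⟨C.π x * n * (C.π x)⁻¹, hS.conj_mem _ n.2 _⟩ := by
  obtain ⟨m, hm⟩ := C.normal.conj_mem _ ⟨n, rfl⟩ x
  rw [← hm]
  congr 1
  apply Subtype.ext
  rw [← C.sec m, hm, map_mul, map_mul, map_inv, C.sec]

/-- the isomorphism onto the image of the section -/
noncomputable def e : S ≃* C.s.range := MonoidHom.ofInjective C.inj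

omit [Finite Y] hS in
theorem e_symm (x : C.s.range) : (C.e.symm x : Y) = C.π x := by
  obtain ⟨_, n, rfl⟩ := x
  exact (congrArg Subtype.val (C.e.symm_apply_apply n)).trans (C.sec n).symm

/-- the image of `Q` -/
def Qs (Q : Subgroup Y) : Subgroup W := (Q.subgroupOf S).map C.s

/-- the image of `θ` -/
noncomputable def th (θ : Y → ℂ) : W → ℂ := extendByZero C.s.range fun x => θ (C.e.symm x)

omit [Finite Y] hS in
theorem mem_Qs {n : S} : C.s n ∈ C.Qs Q ↔ (n : Y) ∈ Q := Subgroup.mem_map_iff_mem C.inj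

omit [Finite Y] hS in
theorem Qs_le : C.Qs Q ≤ C.s.range := Subgroup.map_le_range _ _

omit [Finite Y] hS in
theorem th_mem {x : W} (hx : x ∈ C.s.range) : C.th θ x = θ (C.π x) := by
  rw [th, Core.extendByZero_of_mem _ _ hx, C.e_symm]

omit [Finite Y] hS in
theorem th_zero {x : W} (hx : x ∉ C.s.range) : C.th θ x = 0 := Core.extendByZero_of_notMem _ _ hx

omit [Finite Y] in
theorem mem_Ce (hQ : Q ≤ S) (x : W) : x ∈ Ce (C.Qs Q) ↔ C.π x ∈ Ce Q := by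
  rw [Cov.mem_Ce, Cov.mem_Ce]
  constructor
  · intro h d hd
    have h1 := congrArg C.π (h _ ((C.mem_Qs (n := ⟨d, hQ hd⟩)).2 hd))
    rwa [map_mul, map_mul, C.sec] at h1
  · rintro h _ ⟨d, hd, rfl⟩
    rw [eq_comm, ← mul_inv_eq_iff_eq_mul, C.cj]
    exact congrArg C.s (Subtype.ext (mul_inv_eq_iff_eq_mul.2 (h d hd).symm))

omit [Finite Y] in
theorem mem_In (hQ : Q ≤ S) (h0 : ∀ g, g ∉ S → θ g = 0) (x : W) : x ∈ In (C.Qs Q) (C.th θ) ↔ C.π x ∈ In Q θ := by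
  have := C.normal
  rw [Reg.mem_In_iff C.Qs_le fun _ => C.th_zero, Reg.mem_In_iff hQ h0, Cov.mem_LA, Cov.mem_LA]
  have k1 : ∀ n : S, MulAut.conjNormal x (C.e n) = C.e (MulAut.conjNormal (C.π x) n) := fun n =>
    Subtype.ext (C.cj x n)
  have k2 : ∀ n : S, C.e n ∈ (C.Qs Q).subgroupOf C.s.range ↔ n ∈ Q.subgroupOf S := fun n => C.mem_Qs
  have k3 : ∀ n : S, C.th θ (C.e n) = θ n := fun n => (C.th_mem (C.e n).2).trans (congrArg θ (C.sec n))
  rw [C.e.surjective.forall, C.e.surjective.forall]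
  simp only [k1, k2, k3]

omit hS in
theorem root [Finite W] (R : Root p M S b Q θ) : Root p M C.s.range (H649.blkMap C.e b) (C.Qs Q) (C.th θ) := by
  refine Reg.root_of_can C.Qs_le ?_
  have h := Cov.can_map C.e R.can
  have e : (Q.subgroupOf S).map C.e.toMonoidHom = (C.Qs Q).subgroupOf C.s.range := by
    ext x
    obtain ⟨n, rfl⟩ := C.e.surjective x
    exact (Subgroup.mem_map_iff_mem (f := C.e.toMonoidHom) C.e.injective).trans C.mem_Qs.symm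
  rwa [e] at h

omit [Finite Y] hS in
theorem om_cl [Fintype W] {ψ : W → ℂ} {χ : Y → ℂ} (h : ∀ n : S, ψ (C.s n) = χ n) (n : S) :
    om ψ (ind (cl C.s.range (C.s n))) = ∑ᶠ m ∈ {m : S | IsConj n m}, χ m / χ 1 := by
  have e : cl C.s.range (C.s n) = C.s '' {m : S | IsConj n m} := by
    ext v
    constructor
    · rintro ⟨_, ⟨a, rfl⟩, rfl⟩
      exact ⟨_, isConj_iff.2 ⟨a, rfl⟩, by simp⟩
    · rintro ⟨m, hm, rfl⟩
      obtain ⟨a, rfl⟩ := isConj_iff.1 hm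
      exact ⟨_, ⟨a, rfl⟩, by simp⟩
  rw [← om_fs, e, finsum_mem_image C.inj.injOn]
  simp only [h, show ψ 1 = χ 1 by simpa using h 1]

omit [Finite Y] in
theorem top (hT : S ⊔ In Q θ = ⊤) : C.s.range ⊔ (In Q θ).comap C.π = ⊤ := by
  refine top_le_iff.1 fun x _ => ?_
  obtain ⟨n, hn, h, hh, e⟩ := Subgroup.mem_sup_of_normal_left.1 (hT ▸ Subgroup.mem_top (C.π x) : C.π x ∈ S ⊔ In Q θ)
  rw [← mul_inv_cancel_left (C.s ⟨n, hn⟩) x]
  refine Subgroup.mul_mem_sup ⟨_, rfl⟩ ?_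
  rw [Subgroup.mem_comap, map_mul, map_inv, C.sec, ← e]
  simpa using hh

omit [Finite Y] hS in
theorem irrN {ψ : W → ℂ} {χ : Y → ℂ} (hχ : IsIrrCharacter S fun n => χ n) (h : ∀ n : S, ψ (C.s n) = χ n) :
    IsIrrCharacter C.s.range fun x => ψ x := by
  have h1 := Core.isIrr_comp C.e.symm.toMonoidHom C.e.symm.surjective hχ
  refine (funext fun x => ?_ : _ = fun x : C.s.range => ψ x) ▸ h1
  obtain ⟨n, rfl⟩ := C.e.surjective x
  exact (congrArg (fun m : S => χ m) (C.e.symm_apply_apply n)).trans (h n).symm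

omit [Finite Y] hS in
theorem irrI {H : Subgroup Y} {H' : Subgroup W} (hH : ∀ n : S, C.s n ∈ H' ↔ (n : Y) ∈ H) {ψ : W → ℂ} {η : Y → ℂ}
    (hη : IsIrrCharacter (S ⊓ H : Subgroup Y) fun n => η n) (h : ∀ n : S, (n : Y) ∈ H → ψ (C.s n) = η n) :
    IsIrrCharacter (C.s.range ⊓ H' : Subgroup W) fun x => ψ x := by
  have h1 := Core.isIrr_comp ((C.π.comp (C.s.range ⊓ H').subtype).codRestrict (S ⊓ H) (by
      rintro ⟨_, ⟨n, rfl⟩, hn⟩
      show C.π (C.s n) ∈ _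
      rw [C.sec]
      exact ⟨n.2, (hH n).1 hn⟩))
    (fun y => ⟨⟨C.s ⟨y, y.2.1⟩, ⟨_, rfl⟩, (hH _).2 y.2.2⟩, Subtype.ext (C.sec _)⟩) hη
  refine (funext fun x => ?_ : _ = fun x : (C.s.range ⊓ H' : Subgroup W) => ψ x) ▸ h1
  obtain ⟨_, ⟨n, rfl⟩, hn⟩ := x
  exact (congrArg η (C.sec n)).trans (h n ((hH n).1 hn)).symm

/-- **the data of the comparison in a cover** -/
theorem dat [Fintype W] (R : Root p M S b Q θ) (hT : S ⊔ In Q θ = ⊤) {χ η : Y → ℂ} (hχ : (fun n : S => χ n) ∈ Fn b)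
    (hη : (fun n : (S ⊓ In Q θ : Subgroup Y) => η n) ∈ Fn (LocB M S Q θ)) (h0 : ∀ y, y ∉ S ⊓ In Q θ → η y = 0)
    {ψ ψ' : W → ℂ} (h1 : IsCharacter W ψ) (h2 : ∀ n : S, ψ (C.s n) = χ n)
    (h3 : IsCharacter ((In Q θ).comap C.π) fun x => ψ' x) (h4 : ∀ n : S, ψ' (C.s n) = η n)
    (h5 : ∀ x, C.π x ∉ In Q θ → ψ' x = 0) :
    Dat p M C.s.range ((In Q θ).comap C.π) (C.Qs Q) ψ ψ' := by
  have := C.normal
  have hs : ∀ n : S, C.s n ∈ (In Q θ).comap C.π ↔ (n : Y) ∈ In Q θ := fun n => by rw [Subgroup.mem_comap, C.sec]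
  have i1 : IsIrrCharacter C.s.range fun x => ψ x := C.irrN (by obtain ⟨χ', -, h⟩ := hχ; exact h ▸ χ'.2) h2
  have i2 := C.irrI hs (ψ := ψ') (by obtain ⟨η', -, h⟩ := hη; exact h ▸ η'.2) fun n _ => h4 n
  refine ⟨R.can.hM, ⟨le_top, Subgroup.normalizer_eq_top C.s.range ▸ le_rfl,
    Cov.irr_of_comp (Subgroup.inclusion le_top) (Core.isCharacter_comp (⊤ : Subgroup W).subtype h1) i1, i1,
    fun g hg => absurd (Subgroup.mem_top g) hg⟩, ⟨inf_le_right, ?_,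
    Cov.irr_of_comp (Subgroup.inclusion inf_le_right) h3 i2, i2, h5⟩, R.can.pg.map _, ?_,
    fun x hx => Cov.In_le_normalizer ((C.mem_In R.le R.zero x).2 hx), ?_, fun g hg hg' => ?_, ?_, C.top hT⟩
  · refine (Subgroup.normal_subgroupOf_iff_le_normalizer inf_le_right).1 ?_
    rw [Subgroup.inf_subgroupOf_right]
    infer_instance
  · rintro _ ⟨n, hn, rfl⟩
    exact ⟨⟨n, rfl⟩, (hs n).2 (Reg.le_In R hn)⟩
  · rintro _ ⟨⟨n, rfl⟩, hn⟩
    have h6 := (C.mem_Ce R.le _).1 hn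
    rw [C.sec] at h6
    exact (hs n).2 (Reg.ce_le_In R ⟨n.2, h6⟩)
  · rw [← pre_dis R hη ((C.mem_Ce R.le g).1 hg) hg']
    have hm : ∀ n : S, C.s n ∈ Ce (C.Qs Q) ↔ n ∈ Ce (Q.subgroupOf S) := fun n => by
      rw [C.mem_Ce R.le, C.sec, Cov.mem_Ce_sub R.le]
    refine (finsum_eq_of_bijective (fun c : Ce (Q.subgroupOf S) =>
      (⟨C.s c, ⟨_, rfl⟩, (hm _).2 c.2⟩ : (C.s.range ⊓ Ce (C.Qs Q) : Subgroup W)))
      ⟨fun a b h => Subtype.ext (C.inj (congrArg Subtype.val h)), ?_⟩ fun c => ?_).symm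
    · rintro ⟨_, ⟨n, rfl⟩, hn⟩
      exact ⟨⟨n, (hm n).1 hn⟩, rfl⟩
    · have h6 := C.cj g⁻¹ c
      rw [inv_inv] at h6
      show _ = ψ' (C.s c) * (starRingEnd ℂ) (ψ' (g⁻¹ * C.s c * g))
      rw [h6, h4, h4]
      simp
  · rintro _ ⟨n, rfl⟩
    rw [C.om_cl h2, C.om_cl h4]
    exact pre_one R hχ hη h0 n

/-- the restriction to a subgroup -/
def res (T : Subgroup W) (h : C.s.range ≤ T) : Cv S T where
  π := C.π.comp T.subtype
  s := C.s.codRestrict T fun n => h ⟨n, rfl⟩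
  sec := C.sec
  normal := ⟨by
    rintro _ ⟨n, rfl⟩ g
    obtain ⟨m, hm⟩ := C.normal.conj_mem _ ⟨n, rfl⟩ g
    exact ⟨m, Subtype.ext hm⟩⟩

omit [Finite Y] hS in
theorem res_mem {T : Subgroup W} (h : C.s.range ≤ T) (x : T) : x ∈ (C.res T h).s.range ↔ (x : W) ∈ C.s.range :=
  ⟨fun ⟨n, hn⟩ => ⟨n, congrArg Subtype.val hn⟩, fun ⟨n, hn⟩ => ⟨n, Subtype.ext hn⟩⟩

omit [Finite Y] hS in
theorem res_gen [Finite W] (w : W) (x : (C.s.range ⊔ Subgroup.zpowers w : Subgroup W)) : ∃ (n : S) (k : ℕ),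
    x = (C.res _ le_sup_left).s n * (⟨w, Subgroup.mem_sup_right (Subgroup.mem_zpowers w)⟩ :
      (C.s.range ⊔ Subgroup.zpowers w : Subgroup W)) ^ k := by
  have := C.normal
  obtain ⟨_, ⟨n, rfl⟩, y, hy, h⟩ := Subgroup.mem_sup_of_normal_left.1 x.2
  obtain ⟨k, rfl⟩ := (mem_powers_iff_mem_zpowers.2 hy : y ∈ Submonoid.powers w)
  exact ⟨n, k, Subtype.ext h.symm⟩

section Cyc

variable {w : W} (hg : ∀ x : W, ∃ (n : S) (k : ℕ), x = C.s n * w ^ k)
include hg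

omit [Finite Y] hS in
theorem gen_mk (x : W ⧸ C.s.range) : haveI := C.normal; x ∈ Subgroup.zpowers (w : W ⧸ C.s.range) := by
  have := C.normal
  obtain ⟨x, rfl⟩ := QuotientGroup.mk_surjective x
  obtain ⟨n, k, rfl⟩ := hg x
  rw [QuotientGroup.mk_mul, (QuotientGroup.eq_one_iff _).2 (MonoidHom.mem_range.2 ⟨n, rfl⟩), one_mul,
    QuotientGroup.mk_pow]
  exact Subgroup.npow_mem_zpowers _ k

omit [Finite Y] hS in
theorem cyc : haveI := C.normal; IsCyclic (W ⧸ C.s.range) := haveI := C.normal; ⟨⟨w, C.gen_mk hg⟩⟩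

omit [Finite Y] hS in
theorem index_dvd : C.s.range.index ∣ orderOf w := by
  have := C.normal
  rw [Subgroup.index, ← orderOf_eq_card_of_forall_mem_zpowers (C.gen_mk hg)]
  exact orderOf_map_dvd (QuotientGroup.mk' C.s.range) w

omit [Finite Y] hS in
theorem sup_top {K : Subgroup W} (hw : w ∈ K) : C.s.range ⊔ K = ⊤ := top_le_iff.1 fun x _ => by
  obtain ⟨n, k, rfl⟩ := hg x
  exact Subgroup.mul_mem_sup ⟨n, rfl⟩ (pow_mem hw k)

theorem ce_le (R : Root p M S b Q θ) (h1 : C.π w ∈ In Q θ) (h2 : C.π w ∈ Ce Q) : Ce (C.Qs Q) ≤ In (C.Qs Q) (C.th θ) := by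
  intro x hx
  obtain ⟨n, k, rfl⟩ := hg x
  rw [C.mem_Ce R.le, map_mul, map_pow, C.sec, mul_mem_cancel_right (pow_mem h2 k)] at hx
  rw [C.mem_In R.le R.zero, map_mul, map_pow, C.sec]
  exact mul_mem (Reg.ce_le_In R ⟨n.2, hx⟩) (pow_mem h1 k)

/-- no linear character fixes a block above `b` -/
theorem tw [Finite W] (R : Root p M S b Q θ) (hp : ¬ p ∣ orderOf w) (h1 : C.π w ∈ In Q θ) (h2 : C.π w ∈ Ce Q)
    {e0 : Y → ℂ} (k0 : IsIrrCharacter (S ⊓ In Q θ : Subgroup Y) fun x => e0 x) (k1 : ∀ c ∈ Ce Q, c ∈ S → e0 c = θ c)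
    (k2 : ∀ i ∈ S ⊓ In Q θ, e0 (C.π w * i * (C.π w)⁻¹) = e0 i) {χ : Y → ℂ} (hχ : (fun n : S => χ n) ∈ Fn b)
    (ψ : IrrCharacter W) (hψ : ∀ n : S, ψ.1 (C.s n) = χ n) {l : W →* ℂˣ} (hl : C.s.range ≤ l.ker)
    (h : SameBlock M ψ.1 (H666.Clif.tl l ψ).1) : l w = 1 := by
  have := C.normal
  have := R.can.prime
  have := Fintype.ofFinite C.s.range
  have R' := C.root R
  have hI := C.mem_In R.le R.zero
  have k3 : ∀ (k : ℕ), ∀ i ∈ S ⊓ In Q θ, e0 (C.π w ^ k * i * (C.π w ^ k)⁻¹) = e0 i := by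
    intro k
    induction k with
    | zero => simp
    | succ k ih =>
      intro i hi
      rw [← k2 i hi, ← ih _ (Subgroup.mem_inf.2 ⟨hS.conj_mem _ hi.1 _,
        mul_mem (mul_mem h1 (Subgroup.mem_inf.1 hi).2) (inv_mem h1)⟩)]
      congr 1
      group
  obtain ⟨B, θ', -, -, -, h3, h4, -⟩ := boxCOV' W p M C.s.range (C.cyc hg) (fun h => hp (h.trans (C.index_dvd hg))) _ _
    R'.le _ R'.zero R'.can (C.sup_top hg ((hI w).2 h1)) (C.ce_le hg R h1 h2) (fun x => e0 (C.π x))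
    (by
      rw [inf_comm]
      exact C.irrI (ψ := fun x => e0 (C.π x)) (fun n => by rw [hI, C.sec]) k0 fun n _ => congrArg e0 (C.sec n))
    (by
      rintro _ hc ⟨n, rfl⟩
      rw [C.th_mem ⟨n, rfl⟩]
      exact k1 _ ((C.mem_Ce R.le _).1 hc) (by rw [C.sec]; exact n.2))
    (by
      rintro t ht _ hx ⟨m, rfl⟩
      obtain ⟨n, k, rfl⟩ := hg t
      rw [hI, map_mul, map_pow, C.sec, mul_mem_cancel_right (pow_mem h1 k)] at ht
      rw [hI, C.sec] at hx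
      have h5 : C.π w ^ k * m * (C.π w ^ k)⁻¹ ∈ S ⊓ In Q θ :=
        Subgroup.mem_inf.2 ⟨hS.conj_mem _ m.2 _, mul_mem (mul_mem (pow_mem h1 k) hx) (inv_mem (pow_mem h1 k))⟩
      simp only [map_mul, map_inv, map_pow, C.sec]
      rw [← k3 k m ⟨m.2, hx⟩, ← irr_conj k0 ⟨_, h5⟩ ⟨n, n.2, ht⟩]
      congr 1
      simp only [Subgroup.coe_mul, Subgroup.coe_inv]
      group)
  obtain ⟨χ', h5, h6⟩ := hχ
  have h7 : (fun n : C.s.range => ψ.1 n) = (H649.irrMap C.e χ').1 := funext fun x => by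
    obtain ⟨n, rfl⟩ := C.e.surjective x
    rw [H649.irrMap_apply', h6]
    exact hψ n
  obtain ⟨m, -, h8⟩ := h4 _ (isPBlock_blockOf ψ) ⟨ψ, mem_blockOf_self ψ, _, H649.irrMap_mem_blkMap.2 h5, by
    rw [h7, Core.classInner_irr_self (H649.irrMap C.e χ').2]
    exact one_ne_zero⟩
  have h9 := Cov.eq_tl (isPBlock_blockOf ψ) (isPBlock_blockOf ψ) (mem_blockOf_self ψ) h
  refine (h3 l hl).1 (fun f hf => (h8 _).2 ?_) ((C.mem_Ce R.le w).2 h2)
  have h10 := (Cov.fn_tl_iff l _).1 ((h8 f).1 hf)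
  rw [h9] at h10
  exact (funext fun g => mul_right_comm _ _ _ : _ = fun g => f g * l g * m g) ▸ h10

end Cyc

/-- **elements of the ramification group** -/
theorem mem_Dd [Fintype W] [M.IsPrime] (R : Root p M S b Q θ) {H' Q' : Subgroup W} {ψ ψ' : W → ℂ}
    (D : Dat p M C.s.range H' Q' ψ ψ') {w : W} (hp : ¬ p ∣ orderOf w) (h1 : C.π w ∈ In Q θ) (h2 : C.π w ∈ Ce Q)
    {e0 : Y → ℂ} (k0 : IsIrrCharacter (S ⊓ In Q θ : Subgroup Y) fun x => e0 x) (k1 : ∀ c ∈ Ce Q, c ∈ S → e0 c = θ c)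
    (k2 : ∀ i ∈ S ⊓ In Q θ, e0 (C.π w * i * (C.π w)⁻¹) = e0 i) {χ : Y → ℂ} (hχ : (fun n : S => χ n) ∈ Fn b)
    (hψ : ∀ n : S, ψ (C.s n) = χ n) : haveI := C.normal; w ∈ D.Dd := by
  have := C.normal
  have hg := C.res_gen w
  have hi := D.e1.irr_mid (R := C.s.range ⊔ Subgroup.zpowers w) le_sup_left le_top
  have := (C.res (C.s.range ⊔ Subgroup.zpowers w) le_sup_left).normal
  have hc := (C.res _ le_sup_left).cyc hg
  obtain ⟨l, hl, -⟩ := H666.Clif.exists_lin _ hc (T := D.Dd.subgroupOf _) fun x hx => D.le_Dd ((C.res_mem _ x).1 hx)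
  have h3 := (C.res _ le_sup_left).tw hg R (by rwa [← Subgroup.orderOf_coe]) h1 h2 k0 k1 k2 hχ ⟨_, hi⟩ hψ (l := l)
    (fun x hx => hl ▸ D.le_Dd ((C.res_mem _ x).1 hx)) fun g => by
      rw [H666.Clif.centralChar_tl]
      by_cases h4 : (g : W) ∈ D.Dd
      · rw [show l g = 1 from MonoidHom.mem_ker.1 (hl ▸ h4), Units.val_one, one_mul, sub_self]
        exact memLocalIdeal_zero
      have h5 : Gr M C.s.range (g : W) (ind (Subtype.val '' {x | IsConj g x})) := by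
        refine ⟨fun n hn v => ind_congr ⟨?_, ?_⟩, ig_ind _, fun v hv => ?_⟩
        · rintro ⟨x, hx, h⟩
          exact ⟨_, hx.trans (isConj_iff.2 ⟨(⟨n, Subgroup.mem_sup_left hn⟩ : (C.s.range ⊔ Subgroup.zpowers w :
            Subgroup W))⁻¹, rfl⟩), by simp [h, mul_assoc]⟩
        · rintro ⟨x, hx, rfl⟩
          exact ⟨_, hx.trans (isConj_iff.2 ⟨⟨n, Subgroup.mem_sup_left hn⟩, rfl⟩), rfl⟩
        · obtain ⟨x, hx, rfl⟩ : v ∈ Subtype.val '' {x | IsConj g x} := by_contra fun h => hv (ind_of_notMem h)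
          obtain ⟨c, rfl⟩ := isConj_iff.1 hx
          exact (QuotientGroup.eq_iff_div_mem.2 (by
            simpa [div_eq_mul_inv] using (C.res_mem _ _).1 (Cov.comm_mem _ hc c g)))
      have h6 : MemLocalIdeal M (centralChar (fun h : (C.s.range ⊔ Subgroup.zpowers w : Subgroup W) => ψ h) g) := by
        have h7 := (redC_eq_zero_iff (D.ring1 h5)).1 (by_contra fun h => h4 ⟨_, h5, h⟩)
        rw [← om_fs, finsum_mem_image Subtype.val_injective.injOn] at h7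
        rw [Cov.cc_eq hi g]
        exact h7
      exact memLocalIdeal_sub h6 (memLocalIdeal_mul_left (Cov.lin_ring l g) h6)
  exact (hl ▸ MonoidHom.mem_ker.2 h3 : _ ∈ D.Dd.subgroupOf _)

end Cv

end Cfsg.Agent.BH.Kap
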