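import Cfsg.Agent.BH.Kap.C
import Cfsg.Agent.KM.Mu.Cov

/-!
# BH, Kap (helper33): the match of a member of `b` and a member of the local block

`hasMatch`: a common cover (fibre product of two covers), twisted by an extension of the character `κ`.
-/

set_option autoImplicit false

namespace Cfsg.Agent.BH.Kap

open Cfsg Cfsg.Agent.Blocks.Local Cfsg.Agent.Blocks.Basic Cfsg.Agent.Characters Cfsg.Agent.TO
open Cfsg.Agent.Blocks.BrauerMap (ind ind_of_mem ind_of_notMem)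

variable {p : ℕ} {M : Ideal AlgInt} {Y : Type} [Group Y]

theorem exists_reg_pow [hp : Fact p.Prime] [Finite Y] (w : Y) : ∃ k : ℕ, ¬ p ∣ orderOf (w ^ p ^ k) := by
  obtain ⟨k, m, hm, h⟩ := Nat.exists_eq_pow_mul_and_not_dvd (orderOf_pos w).ne' p hp.out.ne_one
  exact ⟨k, fun h1 => hm (h1.trans (orderOf_dvd_of_pow_eq_one (by rw [← pow_mul, ← h, pow_orderOf_eq_one])))⟩

theorem fix_pow {I : Subgroup Y} {c : Y} (hc : c ∈ Subgroup.normalizer (I : Set Y)) {f : Y → ℂ}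
    (h : ∀ i ∈ I, f (c * i * c⁻¹) = f i) (k : ℕ) : ∀ i ∈ I, f (c ^ k * i * (c ^ k)⁻¹) = f i := by
  induction k with
  | zero => simp
  | succ k ih =>
    intro i hi
    rw [← h i hi, ← ih _ ((Subgroup.mem_normalizer_iff.1 hc i).1 hi)]
    congr 1
    group

theorem le_norm_inf (S H : Subgroup Y) [S.Normal] : H ≤ Subgroup.normalizer ((S ⊓ H : Subgroup Y) : Set Y) := by
  refine (Subgroup.normal_subgroupOf_iff_le_normalizer inf_le_right).1 ?_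
  rw [Subgroup.inf_subgroupOf_right]
  infer_instance

/-- a cover in which an invariant character extends -/
theorem exists_cv [Finite Y] {N T : Subgroup Y} (h1 : N ≤ T) (h2 : T ≤ Subgroup.normalizer (N : Set Y)) {f : Y → ℂ}
    (hf : IsIrrCharacter N fun n => f n) (hi : ∀ t ∈ T, ∀ n ∈ N, f (t * n * t⁻¹) = f n) :
    ∃ (E : Type) (_ : Group E) (_ : Finite E) (C : Cv N E) (ψ : E → ℂ), C.π.range = T ∧
      C.π.ker ≤ Subgroup.center E ∧ IsCharacter E ψ ∧ ∀ n : N, ψ (C.s n) = f n := by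
  have : (N.subgroupOf T).Normal := (Subgroup.normal_subgroupOf_iff_le_normalizer h1).2 h2
  obtain ⟨q, E, _, _, C, -⟩ := KM.Mu.exists_cover (N.subgroupOf T)
    ⟨fun n => f ((n : T) : Y), Core.isIrr_comp (Subgroup.subgroupOfEquivOfLe h1).toMonoidHom
      (Subgroup.subgroupOfEquivOfLe h1).surjective hf⟩ fun g n => hi g g.2 _ n.2
  refine ⟨E, inferInstance, inferInstance, ⟨T.subtype.comp C.π,
    C.s.comp (Subgroup.subgroupOfEquivOfLe h1).symm.toMonoidHom, fun n => congrArg Subtype.val (C.sec _), ?_⟩, C.ψ,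
    ?_, fun x hx => C.ker_le (Subtype.ext hx), irr_isCharacter C.irr, fun n => C.ext _⟩
  · rw [MonoidHom.range_comp, MonoidHom.range_eq_top.2 (MulEquiv.surjective _), ← MonoidHom.range_eq_map]
    exact C.normal
  · rw [MonoidHom.range_comp, MonoidHom.range_eq_top.2 C.surj, ← MonoidHom.range_eq_map, Subgroup.range_subtype]

/-- **the fibre product** -/
theorem exists_common {S H T : Subgroup Y} [S.Normal] (hT : T ≤ S ⊔ (T ⊓ H)) {E₁ E₂ : Type} [Group E₁] [Finite E₁]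
    [Group E₂] [Finite E₂] (C₁ : Cv S E₁) (C₂ : Cv (S ⊓ H) E₂) (r₁ : C₁.π.range = T) (r₂ : C₂.π.range = T ⊓ H)
    (z₁ : C₁.π.ker ≤ Subgroup.center E₁) (z₂ : C₂.π.ker ≤ Subgroup.center E₂) :
    ∃ (W : Type) (_ : Group W) (_ : Finite W) (C : Cv S W) (i : W →* E₁) (j : H.comap C.π →* E₂), C.π.range = T ∧
      C.π.ker ≤ Subgroup.center W ∧ (∀ n, i (C.s n) = C₁.s n) ∧
      ∀ (n : S) (h : (n : Y) ∈ H) (h' : C.s n ∈ H.comap C.π), j ⟨C.s n, h'⟩ = C₂.s ⟨n, n.2, h⟩ := by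
  have := C₂.normal
  have m₂ : ∀ e, C₂.π e ∈ H := fun e => (r₂ ▸ MonoidHom.mem_range.2 ⟨e, rfl⟩ : C₂.π e ∈ T ⊓ H).2
  have k₂ : ∀ n, ((C₂.s n : E₂) : E₂ ⧸ C₂.s.range) = 1 := fun n =>
    (QuotientGroup.eq_one_iff _).2 (MonoidHom.mem_range.2 ⟨n, rfl⟩)
  let q : E₂ ⧸ C₂.s.range →* Y ⧸ S := QuotientGroup.lift _ ((QuotientGroup.mk' S).comp C₂.π) (by
    rintro _ ⟨n, rfl⟩
    exact (QuotientGroup.eq_one_iff _).2 (by rw [C₂.sec]; exact n.2.1))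
  let W : Subgroup (E₁ × E₂ ⧸ C₂.s.range) :=
    MonoidHom.eqLocus (((QuotientGroup.mk' S).comp C₁.π).comp (MonoidHom.fst _ _)) (q.comp (MonoidHom.snd _ _))
  have hW : ∀ (a : E₁) (e : E₂), (a, (e : E₂ ⧸ C₂.s.range)) ∈ W ↔ ((C₁.π a : Y) : Y ⧸ S) = (C₂.π e : Y) :=
    fun _ _ => Iff.rfl
  let i : W →* E₁ := (MonoidHom.fst _ _).comp W.subtype
  let C : Cv S W :=
    { π := C₁.π.comp i
      s := (C₁.s.prod 1).codRestrict W fun n => (hW _ 1).2 (by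
        rw [map_one, C₁.sec]
        exact (QuotientGroup.eq_one_iff _).2 n.2)
      sec := C₁.sec
      normal := ⟨by
        rintro _ ⟨n, rfl⟩ g
        obtain ⟨m, hm⟩ := C₁.normal.conj_mem _ ⟨n, rfl⟩ (i g)
        exact ⟨m, Subtype.ext (Prod.ext hm (show 1 = g.1.2 * 1 * g.1.2⁻¹ by simp))⟩⟩ }
  have ex : ∀ x : H.comap C.π, ∃ e : E₂, C₂.π e = C.π x ∧ (e : E₂ ⧸ C₂.s.range) = x.1.1.2 := by
    rintro ⟨⟨⟨a, e⟩, h1⟩, h2⟩
    obtain ⟨e, rfl⟩ := QuotientGroup.mk_surjective e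
    have h3 : C₁.π a / C₂.π e ∈ S := QuotientGroup.eq_iff_div_mem.1 ((hW a e).1 h1)
    refine ⟨C₂.s ⟨C₁.π a / C₂.π e, h3, H.div_mem h2 (m₂ e)⟩ * e, ?_, ?_⟩
    · rw [map_mul, C₂.sec]
      exact div_mul_cancel _ _
    · rw [QuotientGroup.mk_mul, k₂, one_mul]
  have un : ∀ e e' : E₂, C₂.π e = C₂.π e' → (e : E₂ ⧸ C₂.s.range) = e' → e = e' := by
    intro e e' h1 h2
    obtain ⟨n, hn⟩ := QuotientGroup.eq.1 h2
    have h3 : n = 1 := Subtype.ext (by rw [← C₂.sec n, hn, map_mul, map_inv, h1, inv_mul_cancel]; rfl)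
    rw [h3, map_one] at hn
    exact inv_mul_eq_one.1 hn.symm
  choose j h1 h2 using ex
  refine ⟨W, inferInstance, inferInstance, C, i, MonoidHom.mk' j fun a b => un _ _ ?_ ?_, ?_, ?_, fun _ => rfl,
    fun n h h' => un _ _ ((h1 _).trans ((C.sec n).trans (C₂.sec ⟨n, n.2, h⟩).symm)) ((h2 _).trans (k₂ _).symm)⟩
  · rw [map_mul, h1, h1, h1, Subgroup.coe_mul, map_mul]
  · rw [QuotientGroup.mk_mul, h2, h2, h2]
    rfl
  · refine le_antisymm ?_ fun t ht => ?_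
    · rintro _ ⟨x, rfl⟩
      exact r₁ ▸ MonoidHom.mem_range.2 ⟨i x, rfl⟩
    · obtain ⟨a, ha⟩ : t ∈ C₁.π.range := r₁ ▸ ht
      obtain ⟨n, hn, h, hh, e⟩ := Subgroup.mem_sup_of_normal_left.1 (hT ht)
      obtain ⟨c, hc⟩ : h ∈ C₂.π.range := r₂ ▸ hh
      refine ⟨⟨(a, c), (hW a c).2 ?_⟩, ha⟩
      rw [ha, hc, ← e, QuotientGroup.mk_mul, (QuotientGroup.eq_one_iff n).2 hn, one_mul]
  · rintro ⟨⟨a, e⟩, h3⟩ h4
    obtain ⟨e, rfl⟩ := QuotientGroup.mk_surjective e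
    have h5 : C₁.π a = 1 := h4
    have h6 : C₂.π e ∈ S := (QuotientGroup.eq_one_iff _).1 (by rw [← (hW a e).1 h3, h5]; rfl)
    have h7 : (C₂.s ⟨_, h6, m₂ e⟩)⁻¹ * e ∈ Subgroup.center E₂ := z₂ (by
      rw [MonoidHom.mem_ker, map_mul, map_inv, C₂.sec, inv_mul_cancel])
    refine Subgroup.mem_center_iff.2 fun g => Subtype.ext (Prod.ext (Subgroup.mem_center_iff.1 (z₁ h5) _) ?_)
    obtain ⟨c, hc⟩ := QuotientGroup.mk_surjective g.1.2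
    have h8 := congrArg (QuotientGroup.mk (s := C₂.s.range)) (Subgroup.mem_center_iff.1 h7 c)
    simp only [QuotientGroup.mk_mul, QuotientGroup.mk_inv, k₂, inv_one, one_mul, hc] at h8
    exact h8

theorem le_In_top {S : Subgroup Y} [S.Normal] {χ : Y → ℂ} (h : IsIrrCharacter S fun n => χ n)
    (h0 : ∀ y, y ∉ S → χ y = 0) : S ≤ In ⊤ χ := fun n hn => ⟨fun _ => Iff.rfl, fun x => by
  by_cases hx : x ∈ S
  · exact irr_conj h ⟨x, hx⟩ ⟨n, hn⟩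
  · exact (h0 _ fun h1 => hx ((Cov.conj_mem_iff S n x).1 h1)).trans (h0 x hx).symm⟩

/-- **The match.** -/
theorem hasMatch [Fact p.Prime] [Finite Y] {S : Subgroup Y} [hS : S.Normal] {b : Set (IrrCharacter S)}
    {Q : Subgroup Y} {θ : Y → ℂ} (R : Root p M S b Q θ) (hT : S ⊔ In Q θ = ⊤) {e0 : Y → ℂ}
    (h0 : IsIrrCharacter (S ⊓ In Q θ : Subgroup Y) fun x => e0 x) (h1 : ∀ c ∈ Ce Q, c ∈ S → e0 c = θ c)
    {χ η : Y → ℂ} (hχ : (fun n : S => χ n) ∈ Fn b) (hχ0 : ∀ y, y ∉ S → χ y = 0)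
    (hη : (fun n : (S ⊓ In Q θ : Subgroup Y) => η n) ∈ Fn (LocB M S Q θ)) (hη0 : ∀ y, y ∉ S ⊓ In Q θ → η y = 0)
    (hfix : ∀ h ∈ In ⊤ χ, h ∈ In Q θ → ∀ x ∈ S ⊓ In Q θ, η (h * x * h⁻¹) = η x)
    (K : Subgroup Y) (hKn : ∀ t ∈ In ⊤ χ, ∀ x ∈ K, t * x * t⁻¹ ∈ K)
    (hK : ∀ x ∈ K, ∃ n ∈ S, ∃ c ∈ In Q θ, c ∈ Ce Q ∧ x = n * c ∧ ∀ i ∈ S ⊓ In Q θ, e0 (c * i * c⁻¹) = e0 i)
    (y : Y) (hy : y ∈ In ⊤ χ) (hc : ∀ t ∈ In ⊤ χ, ∃ k j : ℕ, t ^ p ^ k * (y ^ j)⁻¹ ∈ K) :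
    HasMatch p M (In ⊤ χ) S (In Q θ) χ η := by
  have := R.can.prime
  have i1 : IsIrrCharacter S fun n => χ n := by obtain ⟨χ', -, h⟩ := hχ; exact h ▸ χ'.2
  have i2 : IsIrrCharacter (S ⊓ In Q θ : Subgroup Y) fun n => η n := by obtain ⟨χ', -, h⟩ := hη; exact h ▸ χ'.2
  have hST := le_In_top i1 hχ0
  obtain ⟨E₁, _, _, C₁, ψ₁, r₁, z₁, c₁, x₁⟩ := exists_cv hST (le_top.trans (Subgroup.normalizer_eq_top S).ge) i1
    fun t ht n _ => ht.2 n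
  obtain ⟨E₂, _, _, C₂, ψ₂, r₂, z₂, c₂, x₂⟩ := exists_cv (T := In ⊤ χ ⊓ In Q θ) (inf_le_inf_right _ hST)
    (inf_le_right.trans (le_norm_inf S _)) i2 fun t ht => hfix t ht.1 ht.2
  obtain ⟨W, _, _, C, i, j, r, z, hi, hj⟩ := exists_common (fun t ht => by
    obtain ⟨n, hn, h, hh, rfl⟩ := Subgroup.mem_sup_of_normal_left.1 (hT ▸ Subgroup.mem_top t : t ∈ S ⊔ In Q θ)
    exact Subgroup.mul_mem_sup hn ⟨(mul_mem_cancel_left (hST hn)).1 ht, hh⟩) C₁ C₂ r₁ r₂ z₁ z₂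
  have := Fintype.ofFinite W
  have := C.normal
  let ψ' : W → ℂ := extendByZero ((In Q θ).comap C.π) fun x => ψ₂ (j x)
  have h2 : ∀ n : S, ψ' (C.s n) = η n := fun n => by
    by_cases hn : (n : Y) ∈ In Q θ
    · have h3 : C.s n ∈ (In Q θ).comap C.π := by rwa [Subgroup.mem_comap, C.sec]
      exact (Core.extendByZero_of_mem _ _ h3).trans ((congrArg ψ₂ (hj n hn h3)).trans (x₂ _))
    · exact (Core.extendByZero_of_notMem _ _ (by rwa [Subgroup.mem_comap, C.sec])).trans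
        (hη0 _ fun h => hn h.2).symm
  have h3 : ∀ n : S, ψ₁ (i (C.s n)) = χ n := fun n => by rw [hi, x₁]
  have D := C.dat R hT hχ hη hη0 (ψ := fun x => ψ₁ (i x)) (ψ' := ψ') (Core.isCharacter_comp i c₁) h3
    (by rw [Cov.ext_coe]; exact Core.isCharacter_comp j c₂) h2 fun x hx => Core.extendByZero_of_notMem _ _ hx
  have hr : ∀ x, C.π x ∈ In ⊤ χ := fun x => r ▸ MonoidHom.mem_range.2 ⟨x, rfl⟩
  have : (K.comap C.π).Normal := ⟨fun x hx g => by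
    rw [Subgroup.mem_comap, map_mul, map_mul, map_inv]
    exact hKn _ (hr g) _ hx⟩
  have := D.normal_Dd
  obtain ⟨y', rfl⟩ : y ∈ C.π.range := r ▸ hy
  obtain ⟨μ, h4, h5⟩ := D.exists_kappa (K.comap C.π) (fun x hx => by
    obtain ⟨n, hn, c, k1, k2, k3, k4⟩ := hK _ hx
    have k5 : C.π ((C.s ⟨n, hn⟩)⁻¹ * x) = c := by rw [map_mul, map_inv, C.sec, k3, inv_mul_cancel_left]
    obtain ⟨k, hk⟩ := exists_reg_pow (p := p) ((C.s ⟨n, hn⟩)⁻¹ * x)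
    have k6 := C.mem_Dd R D hk (by rw [map_pow, k5]; exact pow_mem k1 _) (by rw [map_pow, k5]; exact pow_mem k2 _)
      h0 h1 (by rw [map_pow, k5]; exact fix_pow (le_norm_inf S _ k1) k4 _) hχ h3
    refine ⟨k, (QuotientGroup.eq_one_iff _).1 ?_⟩
    rw [← (QuotientGroup.eq_one_iff _).2 k6, QuotientGroup.mk_pow, QuotientGroup.mk_pow, QuotientGroup.mk_mul,
      (QuotientGroup.eq_one_iff _).2 (inv_mem (D.le_Dd (MonoidHom.mem_range.2 ⟨_, rfl⟩))), one_mul]) y' fun g => by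
    obtain ⟨k, m, h⟩ := hc _ (hr g)
    exact ⟨k, m, by rwa [Subgroup.mem_comap, map_mul, map_inv, map_pow, map_pow]⟩
  refine ⟨W, inferInstance, inferInstance, ⟨⟨C.π, C.s, fun x => ψ₁ (i x), fun x => μ x * ψ' x, r, z, C.sec, C.normal,
    Cov.irr_of_comp C.s.range.subtype (Core.isCharacter_comp i c₁) D.e1.irr0,
    (H666.Clif.tl (μ.comp (Subgroup.subtype _)) ⟨_, D.e2.irr⟩).2, h3, fun n _ => ?_, fun w _ => ?_⟩⟩⟩
  · rw [h4 _ ⟨n, rfl⟩, Units.val_one, one_mul, h2]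
  have e : cls C.s w = cl C.s.range w := Set.ext fun v =>
    ⟨fun ⟨n, h⟩ => ⟨_, ⟨n, rfl⟩, h⟩, by rintro ⟨_, ⟨n, rfl⟩, h⟩; exact ⟨n, h⟩⟩
  have e1 : χ 1 = ψ₁ (i 1) := by simpa using (h3 1).symm
  have e2 : η 1 = μ 1 * ψ' 1 := by simpa using (h2 1).symm
  rw [e, e1, e2, om_fs fun x => ψ₁ (i x), om_fs fun x => μ x * ψ' x]
  convert h5 w using 2
  rw [om_def, om_def, map_one, Units.val_one, one_mul, ← mul_div_assoc, Finset.mul_sum]
  refine congrArg (· / ψ' 1) (Finset.sum_congr rfl fun g _ => ?_)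
  by_cases hg : g ∈ cl C.s.range w
  · by_cases hg' : C.π g ∈ In Q θ
    · rw [ind_of_mem hg, ind_of_mem (S := cl C.s.range w ∩ {v | C.π v ∈ In Q θ}) ⟨hg, hg'⟩, one_mul, one_mul]
      obtain ⟨n, hn, rfl⟩ := hg
      rw [map_mul, map_mul, map_inv, h4 n hn, inv_one, one_mul, mul_one]
    · rw [D.e2.zero g hg', mul_zero, mul_zero, mul_zero, mul_zero]
  · rw [ind_of_notMem hg, ind_of_notMem (S := cl C.s.range w ∩ {v | C.π v ∈ In Q θ}) fun h => hg h.1, zero_mul,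
      zero_mul, mul_zero]

end Cfsg.Agent.BH.Kap
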